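import Cfsg.Agent.Lib.Helper60.J3.CenAbs

/-!
The structure of the centraliser of an involution, from an enumeration of its elements whose
multiplication is given by the index tables.
-/

set_option autoImplicit false

open scoped commutatorElement

namespace Cfsg.Agent.Lib.Helper60.J3

/-- the structure statement for the centraliser of `t` -/
def CenAt {G : Type*} [Group G] (t : G) : Prop :=
  ∃ (Q : Subgroup ↥(Subgroup.centralizer ({t} : Set G))) (_ : Q.Normal),
    Cfsg.IsExtraspecial 2 Q ∧ Nat.card Q = 32 ∧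
    (∀ E : Subgroup Q, Cfsg.IsElementaryAbelian 2 E → Nat.card E ≤ 2 ^ 2) ∧
    (∃ H : Subgroup ↥(Subgroup.centralizer ({t} : Set G)), Q.IsComplement' H) ∧
    Nonempty (↥(Subgroup.centralizer ({t} : Set G)) ⧸ Q ≃* ↥(alternatingGroup (Fin 5)))

section Abs
variable {G : Type*} [Group G] [Finite G] (e : ℕ → G)
  (hmul : ∀ i < 1920, ∀ j < 1920, e i * e j = e (mulI i j))
  (hinj : ∀ i < 1920, ∀ j < 1920, e i = e j → i = j)
  (h0 : e 0 = 1)
  (hcard : Nat.card (Subgroup.centralizer ({e 1} : Set G)) ≤ 1920)

include hmul hinj h0 in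
theorem cen_order : orderOf (e 1) = 2 := by
  have ht2 : e 1 * e 1 = 1 := by
    rw [hmul 1 (by norm_num) 1 (by norm_num), mulI_one_one, h0]
  have ht1 : e 1 ≠ 1 := by
    intro h
    rw [← h0] at h
    exact absurd (hinj 1 (by norm_num) 0 (by norm_num) h) (by norm_num)
  have : Fact (Nat.Prime 2) := ⟨Nat.prime_two⟩
  exact orderOf_eq_prime (by rw [pow_two]; exact ht2) ht1

include hmul hinj h0 hcard in
theorem cen_struct : CenAt (e 1) := by
  classical
  have hmemC : ∀ j < 1920, e j ∈ Subgroup.centralizer ({e 1} : Set G) := by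
    intro j hj
    rw [Subgroup.mem_centralizer_iff]
    intro h hh
    rw [Set.mem_singleton_iff] at hh
    rw [hh, hmul 1 (by norm_num) j hj, hmul j hj 1 (by norm_num), mulI_comm_t j hj]
  -- enumeration
  have hel_inj : Function.Injective
      (fun j : Fin 1920 => (⟨e j.val, hmemC j.val j.isLt⟩ : Subgroup.centralizer ({e 1} : Set G))) := by
    intro a b hab
    have := congrArg Subtype.val hab
    exact Fin.ext (hinj a.val a.isLt b.val b.isLt this)
  have hel_bij := hel_inj.bijective_of_nat_card_le (by rw [Nat.card_fin]; exact hcard)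
  have hcardC : Nat.card (Subgroup.centralizer ({e 1} : Set G)) = 1920 := by
    rw [← Nat.card_congr (Equiv.ofBijective _ hel_bij), Nat.card_fin]
  have hsurj : ∀ c : Subgroup.centralizer ({e 1} : Set G), ∃ j, j < 1920 ∧ e j = (c : G) := by
    intro c
    obtain ⟨j, hj⟩ := hel_bij.2 c
    exact ⟨j.val, j.isLt, congrArg Subtype.val hj⟩
  choose idx hidx_lt hidx using hsurj
  have idx_eq : ∀ (c : Subgroup.centralizer ({e 1} : Set G)) (j : ℕ), j < 1920 →
      e j = (c : G) → idx c = j := by
    intro c j hj h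
    exact hinj _ (hidx_lt c) j hj (by rw [hidx c, h])
  have idx_inj : ∀ c c' : Subgroup.centralizer ({e 1} : Set G), idx c = idx c' → c = c' := by
    intro c c' h
    apply Subtype.ext
    rw [← hidx c, ← hidx c', h]
  have idx_one : idx 1 = 0 := idx_eq 1 0 (by norm_num) (by rw [h0]; rfl)
  have idx_mul : ∀ c c' : Subgroup.centralizer ({e 1} : Set G),
      idx (c * c') = mulI (idx c) (idx c') := by
    intro c c'
    apply idx_eq _ _ (mulI_lt _ _ (hidx_lt c) (hidx_lt c'))
    rw [← hmul _ (hidx_lt c) _ (hidx_lt c'), hidx, hidx]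
    rfl
  have idx_el : ∀ (j : ℕ) (hm : e j ∈ Subgroup.centralizer ({e 1} : Set G)), j < 1920 →
      idx (⟨e j, hm⟩ : Subgroup.centralizer ({e 1} : Set G)) = j :=
    fun j hm hj => idx_eq _ j hj rfl
  -- the action on five points
  obtain ⟨ρ, hρ⟩ : ∃ ρ : Subgroup.centralizer ({e 1} : Set G) →* Equiv.Perm (Fin 5),
      ∀ (c : Subgroup.centralizer ({e 1} : Set G)) (i : Fin 5), ρ c i = pfun (idx c / 32) i := by
    let f : Subgroup.centralizer ({e 1} : Set G) →* Function.End (Fin 5) :=
      { toFun := fun c => pfun (idx c / 32)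
        map_one' := by
          show pfun (idx 1 / 32) = 1
          rw [idx_one]
          exact pfun_zero
        map_mul' := by
          intro c c'
          show pfun (idx (c * c') / 32) = pfun (idx c / 32) * pfun (idx c' / 32)
          rw [idx_mul, mulI_div _ _ (hidx_lt c) (hidx_lt c')]
          exact pfun_hom _ _ (by have := hidx_lt c; omega) (by have := hidx_lt c'; omega) }
    exact ⟨@MulAction.toPermHom _ (Fin 5) _ (MulAction.ofEndHom f), fun c i => rfl⟩
  have hker : ∀ c : Subgroup.centralizer ({e 1} : Set G), c ∈ ρ.ker ↔ idx c < 32 := by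
    intro c
    rw [MonoidHom.mem_ker]
    constructor
    · intro h
      have h1 : pfun (idx c / 32) = 1 := by
        funext i
        have h2 : ρ c i = (1 : Equiv.Perm (Fin 5)) i := by rw [h]
        rw [hρ] at h2
        exact h2
      have h2 := pfun_ker _ (by have := hidx_lt c; omega) h1
      omega
    · intro h
      apply Equiv.ext
      intro i
      rw [hρ, Nat.div_eq_of_lt h, pfun_zero]
      rfl
  have card_of_idx : ∀ (S : Subgroup (Subgroup.centralizer ({e 1} : Set G))) (n : ℕ), n ≤ 1920 →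
      (∀ c, c ∈ S ↔ idx c < n) → Nat.card S = n := by
    intro S n hn hS
    have hb : Function.Bijective (fun k : Fin n =>
        (⟨⟨e k.val, hmemC k.val (lt_of_lt_of_le k.isLt hn)⟩,
          (hS _).mpr (by rw [idx_el _ _ (lt_of_lt_of_le k.isLt hn)]; exact k.isLt)⟩ : S)) := by
      constructor
      · intro a b hab
        have h1 := congrArg (fun q : S => ((q : Subgroup.centralizer ({e 1} : Set G)) : G)) hab
        exact Fin.ext (hinj a.val (lt_of_lt_of_le a.isLt hn) b.val (lt_of_lt_of_le b.isLt hn) h1)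
      · intro q
        have hq := (hS q.1).mp q.2
        refine ⟨⟨idx q.1, hq⟩, ?_⟩
        apply Subtype.ext
        apply Subtype.ext
        exact hidx q.1
    rw [← Nat.card_congr (Equiv.ofBijective _ hb), Nat.card_fin]
  have hcardQ : Nat.card ρ.ker = 32 := card_of_idx ρ.ker 32 (by norm_num) hker
  -- the quotient
  have hrange : ρ.range = alternatingGroup (Fin 5) := by
    apply Equiv.Perm.eq_alternatingGroup_of_index_eq_two
    have h1 := Subgroup.card_eq_card_quotient_mul_card_subgroup ρ.ker
    rw [hcardC, hcardQ, Nat.card_congr (QuotientGroup.quotientKerEquivRange ρ).toEquiv] at h1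
    have h2 := Subgroup.index_mul_card ρ.range
    rw [Nat.card_perm, Nat.card_fin] at h2
    have h3 : (5 : ℕ).factorial = 120 := by decide
    rw [h3] at h2
    have h4 : Nat.card ρ.range = 60 := by omega
    rw [h4] at h2
    omega
  -- the complement
  let H : Subgroup (Subgroup.centralizer ({e 1} : Set G)) :=
    { carrier := {c | idx c % 32 = 0}
      mul_mem' := by
        intro a b ha hb
        show idx (a * b) % 32 = 0
        rw [idx_mul]
        exact mulI_H_cl _ _ (hidx_lt a) (hidx_lt b) ha hb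
      one_mem' := by
        show idx 1 % 32 = 0
        rw [idx_one]
      inv_mem' := by
        intro a ha
        show idx a⁻¹ % 32 = 0
        obtain ⟨j, hj, hj0, hm⟩ := mulI_H_inv (idx a) (hidx_lt a) ha
        have h1 : a⁻¹ = ⟨e j, hmemC j hj⟩ := by
          apply inv_eq_of_mul_eq_one_right
          apply Subtype.ext
          show (a : G) * e j = 1
          rw [← hidx a, hmul _ (hidx_lt a) _ hj, hm, h0]
        rw [h1, idx_el _ _ hj]
        exact hj0 }
  have hH : ∀ c, c ∈ H ↔ idx c % 32 = 0 := fun c => Iff.rfl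
  have hcomp : ρ.ker.IsComplement' H := by
    apply Subgroup.isComplement'_of_disjoint_and_mul_eq_univ
    · rw [Subgroup.disjoint_def]
      intro c hc1 hc2
      have h1 := (hker c).mp hc1
      have h2 := (hH c).mp hc2
      apply idx_inj
      rw [idx_one]
      omega
    · rw [Set.eq_univ_iff_forall]
      intro c
      have hj : 32 * (idx c / 32) < 1920 := by have := hidx_lt c; omega
      have hidxh : idx ⟨e (32 * (idx c / 32)), hmemC _ hj⟩ = 32 * (idx c / 32) := idx_el _ _ hj
      have e1 : 32 * (idx c / 32) / 32 = idx c / 32 := by omega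
      refine Set.mem_mul.mpr ⟨c * (⟨e (32 * (idx c / 32)), hmemC _ hj⟩)⁻¹, ?_,
        ⟨e (32 * (idx c / 32)), hmemC _ hj⟩, ?_, by group⟩
      · show c * (⟨e (32 * (idx c / 32)), hmemC _ hj⟩)⁻¹ ∈ ρ.ker
        rw [MonoidHom.mem_ker, map_mul, map_inv, mul_inv_eq_one]
        apply Equiv.ext
        intro i
        rw [hρ, hρ, hidxh, e1]
      · show ⟨e (32 * (idx c / 32)), hmemC _ hj⟩ ∈ H
        rw [hH, hidxh]
        omega
  -- the extraspecial structure
  have hQ2 : IsPGroup 2 ρ.ker := IsPGroup.of_card (n := 5) (by rw [hcardQ]; norm_num)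
  obtain ⟨Z, hZdef⟩ : ∃ Z : Subgroup (Subgroup.centralizer ({e 1} : Set G)),
      ρ.ker ⊓ Subgroup.centralizer (ρ.ker : Set (Subgroup.centralizer ({e 1} : Set G))) = Z :=
    ⟨_, rfl⟩
  have hZ : ∀ c, c ∈ Z ↔ idx c < 2 := by
    intro c
    rw [← hZdef]
    constructor
    · intro hc
      obtain ⟨hc1, hc2⟩ := Subgroup.mem_inf.mp hc
      have hlt := (hker c).mp hc1
      apply mulI_Q_cen _ hlt
      intro j hj
      have hj' : j < 1920 := by omega
      have hjq : (⟨e j, hmemC j hj'⟩ : Subgroup.centralizer ({e 1} : Set G)) ∈ ρ.ker :=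
        (hker _).mpr (by rw [idx_el _ _ hj']; exact hj)
      have h3 := Subgroup.mem_centralizer_iff.mp hc2 _ hjq
      have h4 := congrArg idx h3
      rw [idx_mul, idx_mul, idx_el _ _ hj'] at h4
      exact h4.symm
    · intro hc
      have hc32 : idx c < 32 := by omega
      refine Subgroup.mem_inf.mpr ⟨(hker c).mpr hc32, ?_⟩
      rw [Subgroup.mem_centralizer_iff]
      intro q _
      rcases Nat.lt_succ_iff_lt_or_eq.mp hc with h | h
      · have h1 : c = 1 := idx_inj _ _ (by rw [idx_one]; omega)
        rw [h1, mul_one, one_mul]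
      · apply idx_inj
        rw [idx_mul, idx_mul, h]
        exact mulI_comm_t _ (hidx_lt q)
  have hcardZ : Nat.card Z = 2 := card_of_idx Z 2 (by norm_num) hZ
  have hES : Cfsg.IsExtraspecial 2 ρ.ker := by
    refine Extra.isExtraspecial_of ρ.ker Z hQ2 hZdef ?_ ?_ hcardZ
    · apply le_antisymm
      · rw [Subgroup.commutator_le]
        intro a ha b hb
        rw [hZ]
        have ha' := (hker a).mp ha
        have hb' := (hker b).mp hb
        rcases mulI_Q_comm _ _ ha' hb' with h | h
        · have hab : a * b = b * a := idx_inj _ _ (by rw [idx_mul, idx_mul, h])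
          have h1 : ⁅a, b⁆ = 1 := by rw [commutatorElement_def, hab]; group
          rw [h1, idx_one]
          norm_num
        · have hab : a * b = ⟨e 1, hmemC 1 (by norm_num)⟩ * (b * a) :=
            idx_inj _ _ (by rw [idx_mul, idx_mul, idx_mul, idx_el 1 _ (by norm_num), h])
          have h1 : ⁅a, b⁆ = ⟨e 1, hmemC 1 (by norm_num)⟩ := by
            rw [commutatorElement_def, hab]; group
          rw [h1, idx_el 1 _ (by norm_num)]
          norm_num
      · intro z hz
        have hz' := (hZ z).mp hz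
        rcases Nat.lt_succ_iff_lt_or_eq.mp hz' with h | h
        · have h1 : z = 1 := idx_inj _ _ (by rw [idx_one]; omega)
          rw [h1]
          exact Subgroup.one_mem _
        · have hq2 : (⟨e 2, hmemC 2 (by norm_num)⟩ : Subgroup.centralizer ({e 1} : Set G)) ∈ ρ.ker :=
            (hker _).mpr (by rw [idx_el 2 _ (by norm_num)]; norm_num)
          have hq4 : (⟨e 4, hmemC 4 (by norm_num)⟩ : Subgroup.centralizer ({e 1} : Set G)) ∈ ρ.ker :=
            (hker _).mpr (by rw [idx_el 4 _ (by norm_num)]; norm_num)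
          have hab : (⟨e 2, hmemC 2 (by norm_num)⟩ : Subgroup.centralizer ({e 1} : Set G)) *
              ⟨e 4, hmemC 4 (by norm_num)⟩ = z * (⟨e 4, hmemC 4 (by norm_num)⟩ *
                ⟨e 2, hmemC 2 (by norm_num)⟩) :=
            idx_inj _ _ (by
              rw [idx_mul, idx_mul, idx_mul, idx_el 2 _ (by norm_num), idx_el 4 _ (by norm_num), h]
              exact mulI_nc)
          have h1 : z = ⁅(⟨e 2, hmemC 2 (by norm_num)⟩ : Subgroup.centralizer ({e 1} : Set G)),
              ⟨e 4, hmemC 4 (by norm_num)⟩⁆ := by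
            rw [commutatorElement_def, hab]; group
          rw [h1]
          exact Subgroup.commutator_mem_commutator hq2 hq4
    · intro x hx
      rw [hZ, pow_two, idx_mul]
      exact mulI_Q_sq _ ((hker x).mp hx)
  -- no elementary abelian subgroup with eight elements
  have hE8 : ∀ E : Subgroup ρ.ker, Cfsg.IsElementaryAbelian 2 E → Nat.card E ≤ 2 ^ 2 := by
    rintro E ⟨hEc, hE2⟩
    by_contra hcon
    have hcon' : 4 < Nat.card E := by omega
    obtain ⟨x1, hx1, hx1'⟩ := exists_not_mem_finset E {1} (by rw [Finset.card_singleton]; omega)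
    obtain ⟨x2, hx2, hx2'⟩ := exists_not_mem_finset E {1, x1}
      (lt_of_le_of_lt Finset.card_le_two (by omega))
    obtain ⟨x3, hx3, hx3'⟩ := exists_not_mem_finset E {1, x1, x2, x1 * x2}
      (lt_of_le_of_lt Finset.card_le_four hcon')
    simp only [Finset.mem_insert, Finset.mem_singleton, not_or] at hx1' hx2' hx3'
    have hi := (hker x1.1).mp x1.2
    have hj := (hker x2.1).mp x2.2
    have hl := (hker x3.1).mp x3.2
    have ne_of : ∀ a b : ρ.ker, a ≠ b → idx a.1 ≠ idx b.1 := by
      intro a b hab h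
      exact hab (Subtype.ext (idx_inj _ _ h))
    have sq_of : ∀ a : ρ.ker, a ∈ E → mulI (idx a.1) (idx a.1) = 0 := by
      intro a ha
      have h1 := hE2 a ha
      have h2 : a.1 * a.1 = 1 := by
        have := congrArg Subtype.val h1
        rw [pow_two] at this
        exact this
      rw [← idx_mul, h2, idx_one]
    have comm_of : ∀ a b : ρ.ker, a ∈ E → b ∈ E →
        mulI (idx a.1) (idx b.1) = mulI (idx b.1) (idx a.1) := by
      intro a b ha hb
      have h1 := hEc.is_comm.comm (⟨a, ha⟩ : E) ⟨b, hb⟩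
      have h2 : a * b = b * a := congrArg Subtype.val h1
      have h3 : a.1 * b.1 = b.1 * a.1 := congrArg Subtype.val h2
      rw [← idx_mul, ← idx_mul, h3]
    have hone : idx (1 : ρ.ker).1 = 0 := idx_one
    refine mulI_E8 (idx x1.1) (idx x2.1) (idx x3.1) hi hj hl ?_ ?_ ?_ (sq_of x1 hx1) (sq_of x2 hx2)
      (sq_of x3 hx3) (comm_of x1 x2 hx1 hx2) ?_ ?_ ?_ ?_ (comm_of x1 x3 hx1 hx3)
      (comm_of x2 x3 hx2 hx3)
    · rw [← hone]; exact ne_of _ _ hx1'
    · rw [← hone]; exact ne_of _ _ hx2'.1
    · exact ne_of _ _ hx2'.2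
    · rw [← hone]; exact ne_of _ _ hx3'.1
    · exact ne_of _ _ hx3'.2.1
    · exact ne_of _ _ hx3'.2.2.1
    · rw [← idx_mul]; exact ne_of x3 (x1 * x2) hx3'.2.2.2
  exact ⟨ρ.ker, MonoidHom.normal_ker ρ, hES, hcardQ, hE8, ⟨H, hcomp⟩,
    ⟨(QuotientGroup.quotientKerEquivRange ρ).trans (MulEquiv.subgroupCongr hrange)⟩⟩

end Abs

end Cfsg.Agent.Lib.Helper60.J3
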