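import Cfsg.Agent.Lib.Helper60.J3.Out
import Cfsg.Agent.Lib.Helper60.J3.CenStruct

/-!
Involutions of the central quotient of the matrix group (the Janko group `J₃`): they are all
conjugate, and the centraliser of an involution has 1920 elements, with a normal extraspecial
subgroup with 32 elements, complemented, with quotient the alternating group of degree five.
-/

set_option autoImplicit false

namespace Cfsg.Agent.Lib.Helper60.J3

theorem inj_of_sorted (key srt pos : ℕ → ℕ) (n : ℕ)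
    (hs : ∀ k, k + 1 < n → key (srt k) < key (srt (k + 1)))
    (hp : ∀ m < n, srt (pos m) = m ∧ pos m < n) :
    ∀ m < n, ∀ m' < n, key m = key m' → m = m' := by
  have mono : ∀ b, b < n → ∀ a < b, key (srt a) < key (srt b) := by
    intro b
    induction b with
    | zero => intro _ a ha; omega
    | succ b ih =>
      intro hb a ha
      rcases Nat.lt_succ_iff_lt_or_eq.mp ha with h | h
      · exact lt_trans (ih (by omega) a h) (hs b hb)
      · rw [h]; exact hs b hb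
  intro m hm m' hm' h
  obtain ⟨h1, h2⟩ := hp m hm
  obtain ⟨h1', h2'⟩ := hp m' hm'
  rcases Nat.lt_trichotomy (pos m) (pos m') with hlt | heq | hgt
  · have h3 := mono _ h2' _ hlt
    rw [h1, h1', h] at h3
    exact absurd h3 (lt_irrefl _)
  · rw [← h1, ← h1', heq]
  · have h3 := mono _ h2 _ hgt
    rw [h1, h1', h] at h3
    exact absurd h3 (lt_irrefl _)

theorem cKey_inj : ∀ m < 5760, ∀ m' < 5760, cKey m = cKey m' → m = m' := by
  apply inj_of_sorted cKey cSrt cPos 5760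
  · intro k hk
    have h := chkCSrt_all k (by omega)
    simp only [chkCSrt, Nat.blt_eq, Nat.succ_eq_add_one] at h
    exact h
  · intro m hm
    have h := chkCPos_all m hm
    simp only [chkCPos, Bool.and_eq_true, Nat.blt_eq] at h
    exact ⟨Nat.eq_of_beq_eq_true h.1, h.2⟩

theorem iKey_inj : ∀ m < 26163, ∀ m' < 26163, iKey m = iKey m' → m = m' := by
  apply inj_of_sorted iKey iSrt iPos 26163
  · intro k hk
    have h := chkISrt_all k (by omega)
    simp only [chkISrt, Nat.blt_eq, Nat.succ_eq_add_one] at h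
    exact h
  · intro m hm
    have h := chkIPos_all m hm
    simp only [chkIPos, Bool.and_eq_true, Nat.blt_eq] at h
    exact ⟨Nat.eq_of_beq_eq_true h.1, h.2⟩

theorem canon_eq_of_toMat' {a b : ℕ} (h : toMat a = toMat b) : canon a = canon b :=
  toMat_inj (canon_lt a) (canon_lt b) (by rw [toMat_canon, toMat_canon, h])

theorem cT_eq (j : ℕ) : toMat (cT j) = toMat (cH (j / 32)) * toMat (cQ (j % 32)) := by
  rw [← toMat_mulP]
  rfl

theorem cKey_eq (i s : ℕ) (hs : s < 3) : cKey (3 * i + s) = canon (mulP (scP s) (cT i)) := by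
  unfold cKey
  have e1 : Nat.mod (3 * i + s) 3 = s := by change (3 * i + s) % 3 = s; omega
  have e2 : Nat.div (3 * i + s) 3 = i := by change (3 * i + s) / 3 = i; omega
  rw [e1, e2]

theorem cAct_lt (k : ℕ) : cAct k < 32 := by
  unfold cAct
  exact Nat.lt_succ_of_le Nat.and_le_right

theorem cH_mul (a b : ℕ) (ha : a < 60) (hb : b < 60) :
    toMat (cH a) * toMat (cH b) = toMat (cH (cAm (60 * a + b))) := by
  have h := chkAm_all (60 * a + b) (by omega)
  simp only [chkAm, Bool.and_eq_true] at h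
  have h' := Nat.eq_of_beq_eq_true h.1
  have e1 : Nat.div (60 * a + b) 60 = a := by change (60 * a + b) / 60 = a; omega
  have e2 : Nat.mod (60 * a + b) 60 = b := by change (60 * a + b) % 60 = b; omega
  rw [e1, e2] at h'
  rw [← toMat_mulP, h']

theorem cQ_mul (i j : ℕ) (hi : i < 32) (hj : j < 32) :
    toMat (cQ i) * toMat (cQ j) = toMat (cQ (cQm (32 * i + j))) := by
  have h := allBelow_spec chkQm 1024 chkQm_all (32 * i + j) (by omega)
  simp only [chkQm, Bool.and_eq_true] at h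
  have h' := Nat.eq_of_beq_eq_true h.1
  have e1 : Nat.div (32 * i + j) 32 = i := by change (32 * i + j) / 32 = i; omega
  have e2 : Nat.mod (32 * i + j) 32 = j := by change (32 * i + j) % 32 = j; omega
  rw [e1, e2] at h'
  rw [← toMat_mulP, h']

theorem cQ_cH (b q : ℕ) (hb : b < 60) (hq : q < 32) :
    toMat (cQ q) * toMat (cH b) = toMat (cH b) * toMat (cQ (cAct (32 * b + q))) := by
  have h := allBelow_spec chkAct 1920 chkAct_all (32 * b + q) (by omega)
  simp only [chkAct, Bool.and_eq_true] at h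
  have h' := Nat.eq_of_beq_eq_true h.1
  have e1 : Nat.div (32 * b + q) 32 = b := by change (32 * b + q) / 32 = b; omega
  have e2 : Nat.mod (32 * b + q) 32 = q := by change (32 * b + q) % 32 = q; omega
  rw [e1, e2] at h'
  rw [← toMat_mulP, ← toMat_mulP, h']

theorem R0_sq : mulP (getR 0) (getR 0) = oneP := by decide +kernel

theorem Z1_sq_ne : neqP (mulP Z1p Z1p) oneP = true := by decide +kernel

theorem Z2_sq_ne : neqP (mulP Z2p Z2p) oneP = true := by decide +kernel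

theorem iW_spec (o : ℕ) (ho : o < 1539) :
    toMat (getR o) * toMat (iW o) = toMat (iW o) * toMat (getR 0) ∧ iWc o < 6156 ∧
      iWk o < 24480 := by
  have h := allBelow_spec chkIW 1539 chkIW_all o ho
  simp only [chkIW, Bool.and_eq_true, Nat.blt_eq] at h
  refine ⟨?_, h.1.2, h.2⟩
  rw [← toMat_mulP, ← toMat_mulP, Nat.eq_of_beq_eq_true h.1.1]

theorem Xp_pow_inv (i : ℕ) (hi : i < 17) : toMat Xp ^ i * toMat Xp ^ ((17 - i) % 17) = 1 := by
  rw [← pow_add, Xp_pow_mod]
  have e : (i + (17 - i) % 17) % 17 = 0 := by omega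
  rw [e, pow_zero]

/-- the matrix of a listed involution -/
def iRaw (s : ℕ) : ℕ :=
  mulP (mulP (XPt (s % 17)) (getR (s / 17))) (XPt ((17 - s % 17) % 17))

theorem iKey_eq (s : ℕ) : iKey s = canon (iRaw s) := rfl

theorem iRaw_eq (s : ℕ) (M : Mat)
    (h : M * toMat Xp ^ (s % 17) = toMat Xp ^ (s % 17) * toMat (getR (s / 17))) :
    M = toMat (iRaw s) := by
  have hi : s % 17 < 17 := Nat.mod_lt _ (by norm_num)
  rw [iRaw, toMat_mulP, toMat_mulP, XPt_spec _ hi, XPt_spec _ (Nat.mod_lt _ (by norm_num)), ← h,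
    mul_assoc, Xp_pow_inv _ hi, mul_one]

theorem mat_cancel_right {A B W V : Mat} (h : A * W = B * W) (hv : W * V = 1) : A = B := by
  have h1 := congrArg (fun M => M * V) h
  simp only [mul_assoc, hv, mul_one] at h1
  exact h1

theorem isSc_sq_one {s : Mat} (hs : IsSc s) (h : s * s = 1) : s = 1 := by
  rcases hs with rfl | rfl | rfl
  · rfl
  · exfalso
    rw [← toMat_mulP, ← toMat_oneP] at h
    exact toMat_ne' Z1_sq_ne h
  · exfalso
    rw [← toMat_mulP, ← toMat_oneP] at h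
    exact toMat_ne' Z2_sq_ne h

theorem sq_of_comm {M : Type*} [Monoid M] (A S : M) (hA : A * A = 1) (hc : S * A = A * S)
    (h : A * S * (A * S) = 1) : S * S = 1 := by
  calc S * S = A * A * (S * S) := by rw [hA, one_mul]
    _ = A * S * (A * S) := by
      rw [mul_assoc A S (A * S), ← mul_assoc S A S, hc, mul_assoc A S S, mul_assoc A A (S * S)]
    _ = 1 := h

section
variable {𝒢 : Type*} [Group 𝒢] {ψ : 𝒢 →* Mat} (hψ : Function.Injective ψ) {x y : 𝒢}
  (hx : ψ x = toMat Xp) (hy : ψ y = toMat Yp)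

include hx hy in
theorem cH_real (a : ℕ) (ha : a < 60) : Real ψ (Hg x y) (cH a) := by
  have h := allBelow_spec chkHdec 60 chkHdec_all a ha
  simp only [chkHdec, Bool.and_eq_true, Nat.blt_eq] at h
  exact real_decomp (ψ := ψ) hx hy _ _ _ h.1.2 h.2 (Nat.eq_of_beq_eq_true h.1.1)

include hx hy in
theorem cQ_real (a : ℕ) (ha : a < 32) : Real ψ (Hg x y) (cQ a) := by
  have h := allBelow_spec chkQdec 32 chkQdec_all a ha
  simp only [chkQdec, Bool.and_eq_true, Nat.blt_eq] at h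
  exact real_decomp (ψ := ψ) hx hy _ _ _ h.1.2 h.2 (Nat.eq_of_beq_eq_true h.1.1)

include hx hy in
theorem iW_real (o : ℕ) (ho : o < 1539) : Real ψ (Hg x y) (iW o) := by
  obtain ⟨-, h1, h2⟩ := iW_spec o ho
  exact real_decomp (ψ := ψ) hx hy _ _ _ h1 h2 rfl

theorem exists_fam (m : ℕ → ℕ) (n : ℕ) (h : ∀ a < n, Real ψ (Hg x y) (m a)) :
    ∃ g : ℕ → Hg x y, ∀ a < n, ψ (g a : 𝒢) = toMat (m a) := by
  have h1 : ∀ a : ℕ, ∃ g : Hg x y, a < n → ψ (g : 𝒢) = toMat (m a) := by
    intro a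
    by_cases ha : a < n
    · obtain ⟨g, hg, hgv⟩ := h a ha
      exact ⟨⟨g, hg⟩, fun _ => hgv⟩
    · exact ⟨1, fun h => absurd h ha⟩
  choose g hg using h1
  exact ⟨g, hg⟩

include hψ in
theorem cen_mul (hH hQ : ℕ → Hg x y) (hHv : ∀ a < 60, ψ (hH a : 𝒢) = toMat (cH a))
    (hQv : ∀ q < 32, ψ (hQ q : 𝒢) = toMat (cQ q)) (i j : ℕ) (hi : i < 1920) (hj : j < 1920) :
    (hH (i / 32) * hQ (i % 32)) * (hH (j / 32) * hQ (j % 32)) =
      hH (mulI i j / 32) * hQ (mulI i j % 32) := by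
  apply Subtype.ext
  apply hψ
  simp only [Subgroup.coe_mul, map_mul]
  have ha : i / 32 < 60 := by omega
  have hb : j / 32 < 60 := by omega
  have hq : i % 32 < 32 := Nat.mod_lt _ (by norm_num)
  have hq' : j % 32 < 32 := Nat.mod_lt _ (by norm_num)
  have hact := cAct_lt (32 * (j / 32) + i % 32)
  rw [mulI_div i j hi hj, mulI_mod i j]
  rw [hHv _ ha, hQv _ hq, hHv _ hb, hQv _ hq', hHv _ (cAm_lt _ (by omega)), hQv _ (cQm_lt _)]
  rw [← cH_mul _ _ ha hb, ← cQ_mul _ _ hact hq', mul_assoc,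
    ← mul_assoc (toMat (cQ (i % 32))), cQ_cH _ _ hb hq]
  simp only [mul_assoc]

include hψ in
theorem cen_inj (hH hQ : ℕ → Hg x y) (hHv : ∀ a < 60, ψ (hH a : 𝒢) = toMat (cH a))
    (hQv : ∀ q < 32, ψ (hQ q : 𝒢) = toMat (cQ q)) (i j : ℕ) (hi : i < 1920) (hj : j < 1920)
    (h : QuotientGroup.mk' (Zg ψ x y) (hH (i / 32) * hQ (i % 32)) =
      QuotientGroup.mk' (Zg ψ x y) (hH (j / 32) * hQ (j % 32))) : i = j := by
  have h1 : (hH (i / 32) * hQ (i % 32))⁻¹ * (hH (j / 32) * hQ (j % 32)) ∈ Zg ψ x y :=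
    QuotientGroup.eq.mp h
  rw [mem_Zg] at h1
  have hgi : ψ ((hH (i / 32) * hQ (i % 32) : Hg x y) : 𝒢) = toMat (cT i) := by
    rw [cT_eq, Subgroup.coe_mul, map_mul, hHv _ (by omega), hQv _ (Nat.mod_lt _ (by norm_num))]
  have hgj : ψ ((hH (j / 32) * hQ (j % 32) : Hg x y) : 𝒢) = toMat (cT j) := by
    rw [cT_eq, Subgroup.coe_mul, map_mul, hHv _ (by omega), hQv _ (Nat.mod_lt _ (by norm_num))]
  have h2 : toMat (cT j) = toMat (cT i) *
      ψ (((hH (i / 32) * hQ (i % 32))⁻¹ * (hH (j / 32) * hQ (j % 32)) : Hg x y) : 𝒢) := by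
    rw [← hgi, ← hgj, ← map_mul]
    congr 1
    simp only [Subgroup.coe_mul, Subgroup.coe_inv, mul_inv_cancel_left]
  have key : ∀ s < 3, toMat (cT j) = toMat (mulP (scP s) (cT i)) → i = j := by
    intro s hs hm
    have h3 : cKey (3 * j + 0) = cKey (3 * i + s) := by
      rw [cKey_eq j 0 (by norm_num), cKey_eq i s hs]
      apply canon_eq_of_toMat'
      rw [← hm, toMat_mulP]
      show toMat oneP * toMat (cT j) = toMat (cT j)
      rw [toMat_oneP, one_mul]
    have h4 := cKey_inj _ (by omega) _ (by omega) h3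
    omega
  rcases h1 with h1 | h1 | h1
  · apply key 0 (by norm_num)
    rw [h2, h1, mul_one, toMat_mulP]
    show toMat (cT i) = toMat oneP * toMat (cT i)
    rw [toMat_oneP, one_mul]
  · apply key 1 (by norm_num)
    rw [h2, h1, toMat_mulP]
    exact ((IsSc.comm (Or.inr (Or.inl rfl)) _).symm)
  · apply key 2 (by norm_num)
    rw [h2, h1, toMat_mulP]
    exact ((IsSc.comm (Or.inr (Or.inr rfl)) _).symm)

include hψ hx hy in
/-- every involution of the matrix group is conjugate to the fixed one -/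
theorem inv_conj_H (r0 : Hg x y) (hr0 : ψ (r0 : 𝒢) = toMat (getR 0)) (u : Hg x y)
    (h2 : u ^ 2 = 1) (h1 : u ≠ 1) : ∃ g : Hg x y, u = g * r0 * g⁻¹ := by
  obtain ⟨o, ho, i, hi⟩ := inv_cover hψ hx hy u h2 h1
  obtain ⟨hw, -, -⟩ := iW_spec o ho
  obtain ⟨w, hwH, hwv⟩ := iW_real (ψ := ψ) hx hy o ho
  refine ⟨xH x y ^ i * ⟨w, hwH⟩, ?_⟩
  rw [eq_mul_inv_iff_mul_eq]
  apply Subtype.ext
  apply hψ
  simp only [Subgroup.coe_mul, Subgroup.coe_pow, map_mul, map_pow, xH_coe, hx, hwv, hr0]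
  rw [← mul_assoc, hi, mul_assoc, hw, mul_assoc]

include hψ hx hy in
/-- every involution of the quotient is conjugate to the fixed one -/
theorem inv_conj_Q (r0 : Hg x y) (hr0 : ψ (r0 : 𝒢) = toMat (getR 0))
    (q : Hg x y ⧸ Zg ψ x y) (hq : orderOf q = 2) :
    IsConj (QuotientGroup.mk' (Zg ψ x y) r0) q := by
  have hq2 : q ^ 2 = 1 := by rw [← hq]; exact pow_orderOf_eq_one q
  have hq1 : q ≠ 1 := by
    rintro rfl
    rw [orderOf_one] at hq
    omega
  obtain ⟨u, hu, hu2, hu1⟩ := inv_lift hψ q hq2 hq1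
  obtain ⟨g, hg⟩ := inv_conj_H hψ hx hy r0 hr0 u hu2 hu1
  rw [isConj_iff]
  refine ⟨QuotientGroup.mk' _ g, ?_⟩
  rw [← hu, hg]
  simp only [map_mul, map_inv]

include hψ hx hy in
/-- the centraliser of the fixed involution has at most 1920 elements -/
theorem cen_card_le (r0 : Hg x y) (hr0 : ψ (r0 : 𝒢) = toMat (getR 0)) :
    Nat.card (Subgroup.centralizer
      ({QuotientGroup.mk' (Zg ψ x y) r0} : Set (Hg x y ⧸ Zg ψ x y))) ≤ 1920 := by
  have hfin := Hg_finite hψ hx hy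
  have hr2 : r0 * r0 = 1 := by
    apply Subtype.ext
    apply hψ
    rw [Subgroup.coe_mul, map_mul, hr0, toMat_mul_eq R0_sq, toMat_oneP, Subgroup.coe_one, map_one]
  obtain ⟨w, hw⟩ := exists_fam (ψ := ψ) (x := x) (y := y) iW 1539
    (fun o ho => iW_real hx hy o ho)
  obtain ⟨hs, hsdef⟩ : ∃ hs : ℕ → Hg x y, ∀ s, hs s = xH x y ^ (s % 17) * w (s / 17) :=
    ⟨_, fun _ => rfl⟩
  have hval : ∀ s < 26163, ψ ((hs s * r0 * (hs s)⁻¹ : Hg x y) : 𝒢) = toMat (iRaw s) := by
    intro s hs'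
    apply iRaw_eq s
    have ho : s / 17 < 1539 := by omega
    obtain ⟨hwc, -, -⟩ := iW_spec (s / 17) ho
    have hu : ψ ((hs s * r0 * (hs s)⁻¹ : Hg x y) : 𝒢) * ψ ((hs s : Hg x y) : 𝒢) =
        ψ ((hs s : Hg x y) : 𝒢) * ψ (r0 : 𝒢) := by
      rw [← map_mul, ← map_mul, ← Subgroup.coe_mul, ← Subgroup.coe_mul]
      congr 2
      group
    have hh : ψ ((hs s : Hg x y) : 𝒢) = toMat Xp ^ (s % 17) * toMat (iW (s / 17)) := by
      rw [hsdef, Subgroup.coe_mul, Subgroup.coe_pow, map_mul, map_pow, xH_coe, hx, hw _ ho]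
    rw [hh, hr0] at hu
    refine mat_cancel_right (W := toMat (iW (s / 17))) (V := ψ ((w (s / 17))⁻¹ : Hg x y)) ?_ ?_
    · rw [mul_assoc, hu, mul_assoc, ← hwc, ← mul_assoc]
    · rw [← hw _ ho, ← map_mul, ← Subgroup.coe_mul, mul_inv_cancel, Subgroup.coe_one, map_one]
  have hsq : ∀ s < 26163, toMat (iRaw s) * toMat (iRaw s) = 1 := by
    intro s hs'
    rw [← hval s hs', ← map_mul, ← Subgroup.coe_mul]
    have e : hs s * r0 * (hs s)⁻¹ * (hs s * r0 * (hs s)⁻¹) = 1 := by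
      calc hs s * r0 * (hs s)⁻¹ * (hs s * r0 * (hs s)⁻¹)
          = hs s * (r0 * r0) * (hs s)⁻¹ := by group
        _ = 1 := by rw [hr2]; group
    rw [e, Subgroup.coe_one, map_one]
  have hinj : Function.Injective (fun s : Fin 26163 =>
      (QuotientGroup.mk (QuotientGroup.mk' (Zg ψ x y) (hs s.val)) :
        (Hg x y ⧸ Zg ψ x y) ⧸ Subgroup.centralizer
          ({QuotientGroup.mk' (Zg ψ x y) r0} : Set (Hg x y ⧸ Zg ψ x y)))) := by
    intro a b hab
    have h1 : (QuotientGroup.mk' (Zg ψ x y) (hs a.val))⁻¹ *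
        QuotientGroup.mk' (Zg ψ x y) (hs b.val) ∈ Subgroup.centralizer
          ({QuotientGroup.mk' (Zg ψ x y) r0} : Set (Hg x y ⧸ Zg ψ x y)) := QuotientGroup.eq.mp hab
    rw [Subgroup.mem_centralizer_iff] at h1
    have h2 := h1 _ (Set.mem_singleton _)
    have h3 : QuotientGroup.mk' (Zg ψ x y) (hs a.val * r0 * (hs a.val)⁻¹) =
        QuotientGroup.mk' (Zg ψ x y) (hs b.val * r0 * (hs b.val)⁻¹) := by
      simp only [map_mul, map_inv]
      calc QuotientGroup.mk' (Zg ψ x y) (hs a.val) * QuotientGroup.mk' (Zg ψ x y) r0 *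
            (QuotientGroup.mk' (Zg ψ x y) (hs a.val))⁻¹
          = QuotientGroup.mk' (Zg ψ x y) (hs a.val) * (QuotientGroup.mk' (Zg ψ x y) r0 *
              ((QuotientGroup.mk' (Zg ψ x y) (hs a.val))⁻¹ *
                QuotientGroup.mk' (Zg ψ x y) (hs b.val))) *
              (QuotientGroup.mk' (Zg ψ x y) (hs b.val))⁻¹ := by group
        _ = QuotientGroup.mk' (Zg ψ x y) (hs a.val) *
              ((QuotientGroup.mk' (Zg ψ x y) (hs a.val))⁻¹ *
                QuotientGroup.mk' (Zg ψ x y) (hs b.val) * QuotientGroup.mk' (Zg ψ x y) r0) *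
              (QuotientGroup.mk' (Zg ψ x y) (hs b.val))⁻¹ := by rw [h2]
        _ = QuotientGroup.mk' (Zg ψ x y) (hs b.val) * QuotientGroup.mk' (Zg ψ x y) r0 *
            (QuotientGroup.mk' (Zg ψ x y) (hs b.val))⁻¹ := by group
    have h4 : (hs a.val * r0 * (hs a.val)⁻¹)⁻¹ * (hs b.val * r0 * (hs b.val)⁻¹) ∈ Zg ψ x y :=
      QuotientGroup.eq.mp h3
    rw [mem_Zg] at h4
    have h5 : toMat (iRaw b.val) = toMat (iRaw a.val) *
        ψ (((hs a.val * r0 * (hs a.val)⁻¹)⁻¹ * (hs b.val * r0 * (hs b.val)⁻¹) : Hg x y) : 𝒢) := by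
      rw [← hval a.val a.isLt, ← hval b.val b.isLt, ← map_mul]
      congr 1
      simp only [Subgroup.coe_mul, Subgroup.coe_inv, mul_inv_cancel_left]
    have h6 := hsq b.val b.isLt
    rw [h5] at h6
    have h7 : ψ (((hs a.val * r0 * (hs a.val)⁻¹)⁻¹ * (hs b.val * r0 * (hs b.val)⁻¹) : Hg x y) : 𝒢)
        = 1 := by
      apply isSc_sq_one h4
      exact sq_of_comm _ _ (hsq a.val a.isLt) (IsSc.comm h4 _) h6
    rw [h7, mul_one] at h5
    have h8 : iKey b.val = iKey a.val := by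
      rw [iKey_eq, iKey_eq]
      exact canon_eq_of_toMat' h5
    exact Fin.ext (iKey_inj _ a.isLt _ b.isLt h8.symm)
  have h5 := Nat.card_le_card_of_injective _ hinj
  rw [Nat.card_fin] at h5
  have h6 := Subgroup.card_eq_card_quotient_mul_card_subgroup (Subgroup.centralizer
    ({QuotientGroup.mk' (Zg ψ x y) r0} : Set (Hg x y ⧸ Zg ψ x y)))
  rw [card_Qg hψ hx hy] at h6
  by_contra hcon
  have hcon' : 1921 ≤ Nat.card (Subgroup.centralizer
    ({QuotientGroup.mk' (Zg ψ x y) r0} : Set (Hg x y ⧸ Zg ψ x y))) := by omega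
  have h7 := Nat.mul_le_mul h5 hcon'
  rw [← h6] at h7
  omega

/-- the statement on involutions and their centralisers -/
def CenProp (G : Type*) [Group G] : Prop :=
  (∀ x y : G, orderOf x = 2 → orderOf y = 2 → IsConj x y) ∧ ∃ t : G, orderOf t = 2 ∧ CenAt t

include hψ hx hy in
theorem cen_Zg : CenProp (Hg x y ⧸ Zg ψ x y) := by
  have hfin := Hg_finite hψ hx hy
  obtain ⟨hH, hHv⟩ := exists_fam (ψ := ψ) (x := x) (y := y) cH 60 (fun a ha => cH_real hx hy a ha)
  obtain ⟨hQ, hQv⟩ := exists_fam (ψ := ψ) (x := x) (y := y) cQ 32 (fun q hq => cQ_real hx hy q hq)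
  obtain ⟨e, hedef⟩ : ∃ e : ℕ → Hg x y ⧸ Zg ψ x y,
      ∀ j, e j = QuotientGroup.mk' (Zg ψ x y) (hH (j / 32) * hQ (j % 32)) := ⟨_, fun _ => rfl⟩
  have hmul : ∀ i < 1920, ∀ j < 1920, e i * e j = e (mulI i j) := by
    intro i hi j hj
    rw [hedef, hedef, hedef, ← map_mul, cen_mul hψ hH hQ hHv hQv i j hi hj]
  have hinj : ∀ i < 1920, ∀ j < 1920, e i = e j → i = j := by
    intro i hi j hj h
    rw [hedef, hedef] at h
    exact cen_inj hψ hH hQ hHv hQv i j hi hj h
  have h0 : e 0 = 1 := by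
    have h1 : hH (0 / 32) * hQ (0 % 32) = 1 := by
      apply Subtype.ext
      apply hψ
      rw [Subgroup.coe_mul, map_mul, hHv (0 / 32) (by norm_num), hQv (0 % 32) (by norm_num)]
      show toMat (cH 0) * toMat (cQ 0) = ψ ((1 : Hg x y) : 𝒢)
      rw [cH_zero, cQ_zero, toMat_oneP, one_mul, Subgroup.coe_one, map_one]
    rw [hedef, h1, map_one]
  have hr0 : ψ ((hH (1 / 32) * hQ (1 % 32) : Hg x y) : 𝒢) = toMat (getR 0) := by
    rw [Subgroup.coe_mul, map_mul, hHv (1 / 32) (by norm_num), hQv (1 % 32) (by norm_num)]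
    show toMat (cH 0) * toMat (cQ 1) = toMat (getR 0)
    rw [cH_zero, cQ_one, toMat_oneP, one_mul]
  have hcard : Nat.card (Subgroup.centralizer ({e 1} : Set (Hg x y ⧸ Zg ψ x y))) ≤ 1920 := by
    rw [hedef]
    exact cen_card_le hψ hx hy _ hr0
  refine ⟨?_, e 1, cen_order e hmul hinj h0, cen_struct e hmul hinj h0 hcard⟩
  intro a b ha hb
  exact (inv_conj_Q hψ hx hy _ hr0 a ha).symm.trans (inv_conj_Q hψ hx hy _ hr0 b hb)

include hψ hx hy in
/-- the statement for the central quotient -/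
theorem cen_center : CenProp (Hg x y ⧸ Subgroup.center (Hg x y)) := by
  have key : ∀ (N : Subgroup (Hg x y)) [N.Normal], N = Zg ψ x y → CenProp (Hg x y ⧸ N) := by
    rintro N hN rfl
    exact cen_Zg hψ hx hy
  exact key _ (Zg_eq_center hψ hx hy).symm

end

end Cfsg.Agent.Lib.Helper60.J3
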