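import Cfsg.Agent.Lib.Helper60.J3.CenChkAll
import Cfsg.Agent.Lib.Helper60.Extra

/-!
The structure of a group with 1920 elements whose multiplication is given by the index
tables: a normal extraspecial subgroup with 32 elements, without elementary abelian subgroups
with 8 elements, complemented, with quotient the alternating group of degree five.
-/

set_option autoImplicit false

namespace Cfsg.Agent.Lib.Helper60.J3

theorem allBelow_of (f : ℕ → Bool) (n : ℕ) (h : ∀ j < n, f j = true) : allBelow f n = true := by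
  induction n with
  | zero => rfl
  | succ n ih =>
    simp only [allBelow, Bool.and_eq_true]
    exact ⟨h n (Nat.lt_succ_self n), ih (fun j hj => h j (Nat.lt_succ_of_lt hj))⟩

theorem mulI_eq (i j : ℕ) : mulI i j = 32 * cAm (60 * (i / 32) + j / 32) +
    cQm (32 * cAct (32 * (j / 32) + i % 32) + j % 32) := rfl

theorem cQm_lt (k : ℕ) : cQm k < 32 := by
  unfold cQm
  exact Nat.lt_succ_of_le Nat.and_le_right

theorem cAm_lt (k : ℕ) (hk : k < 3600) : cAm k < 60 := by
  have h := chkAm_all k hk
  simp only [chkAm, Bool.and_eq_true, Nat.blt_eq] at h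
  exact h.2

theorem mulI_lt (i j : ℕ) (hi : i < 1920) (hj : j < 1920) : mulI i j < 1920 := by
  rw [mulI_eq]
  have h1 := cAm_lt (60 * (i / 32) + j / 32) (by omega)
  have h2 := cQm_lt (32 * cAct (32 * (j / 32) + i % 32) + j % 32)
  omega

theorem mulI_div (i j : ℕ) (hi : i < 1920) (hj : j < 1920) :
    mulI i j / 32 = cAm (60 * (i / 32) + j / 32) := by
  rw [mulI_eq]
  have h2 := cQm_lt (32 * cAct (32 * (j / 32) + i % 32) + j % 32)
  omega

theorem mulI_mod (i j : ℕ) :
    mulI i j % 32 = cQm (32 * cAct (32 * (j / 32) + i % 32) + j % 32) := by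
  rw [mulI_eq]
  have h2 := cQm_lt (32 * cAct (32 * (j / 32) + i % 32) + j % 32)
  omega

/-- the map of five points attached to an index of the complement -/
def pfun (a : ℕ) : Function.End (Fin 5) :=
  fun i => ⟨pim (cPerm a) i.val % 5, Nat.mod_lt _ (by norm_num)⟩

theorem pim_lt (a : ℕ) (ha : a < 60) (i : ℕ) (hi : i < 5) : pim (cPerm a) i < 5 := by
  have h := allBelow_spec chkPval 60 chkPval_all a ha
  unfold chkPval at h
  have h' := allBelow_spec _ _ h i hi
  simpa using h'

theorem pfun_hom (a b : ℕ) (ha : a < 60) (hb : b < 60) :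
    pfun (cAm (60 * a + b)) = pfun a * pfun b := by
  funext i
  apply Fin.ext
  have h := chkPhom_all (60 * a + b) (by omega)
  unfold chkPhom at h
  have h' := Nat.eq_of_beq_eq_true (allBelow_spec _ _ h i.val i.isLt)
  have e1 : Nat.div (60 * a + b) 60 = a := by change (60 * a + b) / 60 = a; omega
  have e2 : Nat.mod (60 * a + b) 60 = b := by change (60 * a + b) % 60 = b; omega
  rw [e1, e2] at h'
  show pim (cPerm (cAm (60 * a + b))) i.val % 5 = pim (cPerm a) (pim (cPerm b) i.val % 5) % 5
  rw [Nat.mod_eq_of_lt (pim_lt b hb i.val i.isLt), h']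

theorem pfun_zero : pfun 0 = 1 := by
  funext i
  apply Fin.ext
  have h := Nat.eq_of_beq_eq_true (allBelow_spec chkPid 5 chkPid_all i.val i.isLt)
  show pim (cPerm 0) i.val % 5 = i.val
  rw [h]
  exact Nat.mod_eq_of_lt i.isLt

theorem pfun_ker (a : ℕ) (ha : a < 60) (h : pfun a = 1) : a = 0 := by
  have hc := allBelow_spec chkPker 60 chkPker_all a ha
  simp only [chkPker, Bool.or_eq_true, Bool.not_eq_true'] at hc
  rcases hc with hc | hc
  · exact Nat.eq_of_beq_eq_true hc
  · exfalso
    have h3 : allBelow (fun i => Nat.beq (pim (cPerm a) i) i) 5 = true := by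
      apply allBelow_of
      intro i hi
      have h1 := congrFun h ⟨i, hi⟩
      have h2 := congrArg Fin.val h1
      change pim (cPerm a) i % 5 = i at h2
      rw [Nat.mod_eq_of_lt (pim_lt a ha i hi)] at h2
      rw [h2]
      exact Nat.beq_refl i
    rw [h3] at hc
    exact absurd hc (by decide)

attribute [irreducible] pfun

theorem mulI_comm_t (j : ℕ) (hj : j < 1920) : mulI j 1 = mulI 1 j :=
  Nat.eq_of_beq_eq_true (allBelow_spec chkCt 1920 chkCt_all j hj)

theorem mulI_Q_lt (i j : ℕ) (hi : i < 32) (hj : j < 32) : mulI i j < 32 := by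
  have h := allBelow_spec chkQr 32 chkQr_all i hi
  unfold chkQr at h
  have h' := allBelow_spec _ _ h j hj
  simpa using h'

theorem mulI_Q_cen (i : ℕ) (hi : i < 32) (h : ∀ j < 32, mulI i j = mulI j i) : i < 2 := by
  have hc := allBelow_spec chkQcen 32 chkQcen_all i hi
  simp only [chkQcen, Bool.or_eq_true, Bool.not_eq_true', Nat.blt_eq] at hc
  rcases hc with hc | hc
  · exact hc
  · exfalso
    have h3 : allBelow (fun j => Nat.beq (mulI i j) (mulI j i)) 32 = true := by
      apply allBelow_of
      intro j hj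
      rw [h j hj]
      exact Nat.beq_refl _
    rw [h3] at hc
    exact absurd hc (by decide)

theorem mulI_Q_comm (i j : ℕ) (hi : i < 32) (hj : j < 32) :
    mulI i j = mulI j i ∨ mulI i j = mulI 1 (mulI j i) := by
  have h := allBelow_spec chkQcomm 32 chkQcomm_all i hi
  unfold chkQcomm at h
  have h' := allBelow_spec _ _ h j hj
  simp only [Bool.or_eq_true] at h'
  rcases h' with h' | h'
  · left; exact Nat.eq_of_beq_eq_true h'
  · right; exact Nat.eq_of_beq_eq_true h'

theorem mulI_Q_sq (i : ℕ) (hi : i < 32) : mulI i i < 2 := by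
  have h := allBelow_spec chkQsq 32 chkQsq_all i hi
  simpa [chkQsq] using h

theorem mulI_E8 (i j l : ℕ) (hi : i < 32) (hj : j < 32) (hl : l < 32) (h1 : i ≠ 0) (h2 : j ≠ 0)
    (h3 : j ≠ i) (h4 : mulI i i = 0) (h5 : mulI j j = 0) (h6 : mulI l l = 0)
    (h7 : mulI i j = mulI j i) (h8 : l ≠ 0) (h9 : l ≠ i) (h10 : l ≠ j) (h11 : l ≠ mulI i j)
    (h12 : mulI i l = mulI l i) (h13 : mulI j l = mulI l j) : False := by
  have h := allBelow_spec chkE8 32 chkE8_all i hi
  unfold chkE8 at h
  have h' := allBelow_spec _ _ (allBelow_spec _ _ h j hj) l hl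
  simp only [bodyE8, Bool.or_eq_true, Bool.not_eq_true'] at h'
  rcases h' with ((((((((((((h' | h') | h') | h') | h') | h') | h') | h') | h') | h') | h') | h') | h')
  · exact h1 (Nat.eq_of_beq_eq_true h')
  · exact h2 (Nat.eq_of_beq_eq_true h')
  · exact h3 (Nat.eq_of_beq_eq_true h')
  · exact Nat.ne_of_beq_eq_false h' h4
  · exact Nat.ne_of_beq_eq_false h' h5
  · exact Nat.ne_of_beq_eq_false h' h6
  · exact Nat.ne_of_beq_eq_false h' h7
  · exact h8 (Nat.eq_of_beq_eq_true h')
  · exact h9 (Nat.eq_of_beq_eq_true h')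
  · exact h10 (Nat.eq_of_beq_eq_true h')
  · exact h11 (Nat.eq_of_beq_eq_true h')
  · exact Nat.ne_of_beq_eq_false h' h12
  · exact Nat.ne_of_beq_eq_false h' h13

theorem mulI_H_cl (i j : ℕ) (hi : i < 1920) (hj : j < 1920) (hi0 : i % 32 = 0)
    (hj0 : j % 32 = 0) : mulI i j % 32 = 0 := by
  have h := allBelow_spec chkHcl 60 chkHcl_all (i / 32) (by omega)
  unfold chkHcl at h
  have h' := Nat.eq_of_beq_eq_true (allBelow_spec _ _ h (j / 32) (by omega))
  have e1 : Nat.mul 32 (i / 32) = i := by change 32 * (i / 32) = i; omega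
  have e2 : Nat.mul 32 (j / 32) = j := by change 32 * (j / 32) = j; omega
  rw [e1, e2] at h'
  exact h'

theorem mulI_H_inv (i : ℕ) (hi : i < 1920) (hi0 : i % 32 = 0) :
    ∃ j < 1920, j % 32 = 0 ∧ mulI i j = 0 := by
  have h := allBelow_spec chkHinv 60 chkHinv_all (i / 32) (by omega)
  simp only [chkHinv, Bool.and_eq_true, Nat.blt_eq] at h
  have e1 : Nat.mul 32 (i / 32) = i := by change 32 * (i / 32) = i; omega
  have h1 := Nat.eq_of_beq_eq_true h.1
  rw [e1] at h1
  have h2 := h.2
  exact ⟨32 * cAinv (i / 32), by omega, by omega, h1⟩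

theorem exists_not_mem_finset {A : Type*} [Group A] [Finite A] (E : Subgroup A) (S : Finset A)
    (h : S.card < Nat.card E) : ∃ x ∈ E, x ∉ S := by
  by_contra hcon
  simp only [not_exists, not_and, not_not] at hcon
  have hsub : (E : Set A) ⊆ (S : Set A) := fun x hx => hcon x hx
  have h1 : (E : Set A).ncard ≤ S.card := by
    have := Set.ncard_le_ncard hsub (Finset.finite_toSet S)
    rwa [Set.ncard_coe_finset] at this
  have h2 : Nat.card E = (E : Set A).ncard := Nat.card_coe_set_eq (E : Set A)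
  omega

end Cfsg.Agent.Lib.Helper60.J3
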