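import Cfsg.Agent.Lib.Helper60.J3.CenData

/-! Matrix checks for the centraliser of an involution (generated). -/

set_option autoImplicit false

namespace Cfsg.Agent.Lib.Helper60.J3

theorem chkHdec_all : allBelow chkHdec 60 = true := by decide +kernel
theorem chkQdec_all : allBelow chkQdec 32 = true := by decide +kernel
theorem chkQm_all : allBelow chkQm 1024 = true := by decide +kernel
theorem chkAct_all : allBelow chkAct 1920 = true := by decide +kernel
theorem cH_zero : cH 0 = oneP := by decide +kernel
theorem cQ_zero : cQ 0 = oneP := by decide +kernel
theorem cQ_one : cQ 1 = getR 0 := by decide +kernel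
theorem chkIW_all : allBelow chkIW 1539 = true := by decide +kernel
theorem chkAm_c_0 : allBelow (fun j => chkAm (Nat.add 0 j)) 1800 = true := by decide +kernel
theorem chkAm_c_1 : allBelow (fun j => chkAm (Nat.add 1800 j)) 1800 = true := by decide +kernel

end Cfsg.Agent.Lib.Helper60.J3
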