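import Cfsg.Agent.Lib.Helper60.J3.CenData

/-! Index checks for the centraliser of an involution (generated). -/

set_option autoImplicit false

namespace Cfsg.Agent.Lib.Helper60.J3

theorem chkPval_all : allBelow chkPval 60 = true := by decide +kernel
theorem chkPker_all : allBelow chkPker 60 = true := by decide +kernel
theorem chkPid_all : allBelow chkPid 5 = true := by decide +kernel
theorem chkCt_all : allBelow chkCt 1920 = true := by decide +kernel
theorem chkQr_all : allBelow chkQr 32 = true := by decide +kernel
theorem chkQcen_all : allBelow chkQcen 32 = true := by decide +kernel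
theorem chkQcomm_all : allBelow chkQcomm 32 = true := by decide +kernel
theorem chkQsq_all : allBelow chkQsq 32 = true := by decide +kernel
theorem chkE8_all : allBelow chkE8 32 = true := by decide +kernel
theorem chkHcl_all : allBelow chkHcl 60 = true := by decide +kernel
theorem chkHinv_all : allBelow chkHinv 60 = true := by decide +kernel
theorem mulI_one_one : mulI 1 1 = 0 := by decide +kernel
theorem mulI_nc : mulI 2 4 = mulI 1 (mulI 4 2) := by decide +kernel
theorem mulI_nc' : Nat.beq (mulI 2 4) (mulI 4 2) = false := by decide +kernel
theorem chkPhom_c_0 : allBelow (fun j => chkPhom (Nat.add 0 j)) 1800 = true := by decide +kernel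
theorem chkPhom_c_1 : allBelow (fun j => chkPhom (Nat.add 1800 j)) 1800 = true := by decide +kernel

end Cfsg.Agent.Lib.Helper60.J3
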