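import Cfsg.Agent.Lib.Helper60.J3.CenData

/-! Distinctness checks for the centraliser of an involution (generated). -/

set_option autoImplicit false

namespace Cfsg.Agent.Lib.Helper60.J3

theorem chkCSrt_c_0 : allBelow (fun j => chkCSrt (Nat.add 0 j)) 1920 = true := by decide +kernel
theorem chkCSrt_c_1 : allBelow (fun j => chkCSrt (Nat.add 1920 j)) 1920 = true := by decide +kernel
theorem chkCSrt_c_2 : allBelow (fun j => chkCSrt (Nat.add 3840 j)) 1919 = true := by decide +kernel
theorem chkCPos_c_0 : allBelow (fun j => chkCPos (Nat.add 0 j)) 1920 = true := by decide +kernel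
theorem chkCPos_c_1 : allBelow (fun j => chkCPos (Nat.add 1920 j)) 1920 = true := by decide +kernel
theorem chkCPos_c_2 : allBelow (fun j => chkCPos (Nat.add 3840 j)) 1920 = true := by decide +kernel

end Cfsg.Agent.Lib.Helper60.J3
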