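import Cfsg.Agent.Lib.Helper60.J3.CenChkU0
import Cfsg.Agent.Lib.Helper60.J3.CenChkU1
import Cfsg.Agent.Lib.Helper60.J3.CenChkU2
import Cfsg.Agent.Lib.Helper60.J3.CenChkU3
import Cfsg.Agent.Lib.Helper60.J3.CenChkA
import Cfsg.Agent.Lib.Helper60.J3.CenChkS
import Cfsg.Agent.Lib.Helper60.J3.CenChkI

/-! All checks for the centraliser of an involution, assembled (generated). -/

set_option autoImplicit false

namespace Cfsg.Agent.Lib.Helper60.J3

theorem chkAm_all : ∀ j < 3600, chkAm j = true := by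
  intro j hj
  rcases Nat.lt_or_ge j 1800 with h0 | h0
  · exact allBelow_off chkAm 0 1800 chkAm_c_0 j (Nat.zero_le j) h0
  exact allBelow_off chkAm 1800 1800 chkAm_c_1 j h0 hj

theorem chkCSrt_all : ∀ j < 5759, chkCSrt j = true := by
  intro j hj
  rcases Nat.lt_or_ge j 1920 with h0 | h0
  · exact allBelow_off chkCSrt 0 1920 chkCSrt_c_0 j (Nat.zero_le j) h0
  rcases Nat.lt_or_ge j 3840 with h1 | h1
  · exact allBelow_off chkCSrt 1920 1920 chkCSrt_c_1 j h0 h1
  exact allBelow_off chkCSrt 3840 1919 chkCSrt_c_2 j h1 hj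

theorem chkCPos_all : ∀ j < 5760, chkCPos j = true := by
  intro j hj
  rcases Nat.lt_or_ge j 1920 with h0 | h0
  · exact allBelow_off chkCPos 0 1920 chkCPos_c_0 j (Nat.zero_le j) h0
  rcases Nat.lt_or_ge j 3840 with h1 | h1
  · exact allBelow_off chkCPos 1920 1920 chkCPos_c_1 j h0 h1
  exact allBelow_off chkCPos 3840 1920 chkCPos_c_2 j h1 hj

theorem chkPhom_all : ∀ j < 3600, chkPhom j = true := by
  intro j hj
  rcases Nat.lt_or_ge j 1800 with h0 | h0
  · exact allBelow_off chkPhom 0 1800 chkPhom_c_0 j (Nat.zero_le j) h0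
  exact allBelow_off chkPhom 1800 1800 chkPhom_c_1 j h0 hj

theorem chkISrt_all : ∀ j < 26162, chkISrt j = true := by
  intro j hj
  rcases Nat.lt_or_ge j 2048 with h0 | h0
  · exact allBelow_off chkISrt 0 2048 chkISrt_c_0 j (Nat.zero_le j) h0
  rcases Nat.lt_or_ge j 4096 with h1 | h1
  · exact allBelow_off chkISrt 2048 2048 chkISrt_c_1 j h0 h1
  rcases Nat.lt_or_ge j 6144 with h2 | h2
  · exact allBelow_off chkISrt 4096 2048 chkISrt_c_2 j h1 h2
  rcases Nat.lt_or_ge j 8192 with h3 | h3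
  · exact allBelow_off chkISrt 6144 2048 chkISrt_c_3 j h2 h3
  rcases Nat.lt_or_ge j 10240 with h4 | h4
  · exact allBelow_off chkISrt 8192 2048 chkISrt_c_4 j h3 h4
  rcases Nat.lt_or_ge j 12288 with h5 | h5
  · exact allBelow_off chkISrt 10240 2048 chkISrt_c_5 j h4 h5
  rcases Nat.lt_or_ge j 14336 with h6 | h6
  · exact allBelow_off chkISrt 12288 2048 chkISrt_c_6 j h5 h6
  rcases Nat.lt_or_ge j 16384 with h7 | h7
  · exact allBelow_off chkISrt 14336 2048 chkISrt_c_7 j h6 h7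
  rcases Nat.lt_or_ge j 18432 with h8 | h8
  · exact allBelow_off chkISrt 16384 2048 chkISrt_c_8 j h7 h8
  rcases Nat.lt_or_ge j 20480 with h9 | h9
  · exact allBelow_off chkISrt 18432 2048 chkISrt_c_9 j h8 h9
  rcases Nat.lt_or_ge j 22528 with h10 | h10
  · exact allBelow_off chkISrt 20480 2048 chkISrt_c_10 j h9 h10
  rcases Nat.lt_or_ge j 24576 with h11 | h11
  · exact allBelow_off chkISrt 22528 2048 chkISrt_c_11 j h10 h11
  exact allBelow_off chkISrt 24576 1586 chkISrt_c_12 j h11 hj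

theorem chkIPos_all : ∀ j < 26163, chkIPos j = true := by
  intro j hj
  rcases Nat.lt_or_ge j 8192 with h0 | h0
  · exact allBelow_off chkIPos 0 8192 chkIPos_c_0 j (Nat.zero_le j) h0
  rcases Nat.lt_or_ge j 16384 with h1 | h1
  · exact allBelow_off chkIPos 8192 8192 chkIPos_c_1 j h0 h1
  rcases Nat.lt_or_ge j 24576 with h2 | h2
  · exact allBelow_off chkIPos 16384 8192 chkIPos_c_2 j h1 h2
  exact allBelow_off chkIPos 24576 1587 chkIPos_c_3 j h2 hj


end Cfsg.Agent.Lib.Helper60.J3
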