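import Cfsg.Agent.Lib.Helper60.J3.DataC

/-! Coset action checks (generated). -/

set_option autoImplicit false

namespace Cfsg.Agent.Lib.Helper60.J3

theorem chkCXY_c_4 : allBelow (fun j => chkCXY (Nat.add 4104 j)) 1026 = true := by decide +kernel
theorem chkCXY_c_5 : allBelow (fun j => chkCXY (Nat.add 5130 j)) 1026 = true := by decide +kernel

end Cfsg.Agent.Lib.Helper60.J3
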