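import Cfsg.Agent.Lib.Helper60.J3.DataK

/-! Closure checks for the subgroup table (generated). -/

set_option autoImplicit false

namespace Cfsg.Agent.Lib.Helper60.J3

theorem chkKAB_c_9 : allBelow (fun j => chkKAB (Nat.add 18432 j)) 2048 = true := by decide +kernel
theorem chkKAB_c_10 : allBelow (fun j => chkKAB (Nat.add 20480 j)) 2048 = true := by decide +kernel
theorem chkKAB_c_11 : allBelow (fun j => chkKAB (Nat.add 22528 j)) 1952 = true := by decide +kernel

end Cfsg.Agent.Lib.Helper60.J3
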