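import Cfsg.Agent.Lib.Helper60.J3.DataK

/-! Parent checks for the subgroup table (generated). -/

set_option autoImplicit false

namespace Cfsg.Agent.Lib.Helper60.J3

theorem chkKP_c_0 : allBelow (fun j => chkKP (Nat.add 0 j)) 8192 = true := by decide +kernel
theorem chkKP_c_1 : allBelow (fun j => chkKP (Nat.add 8192 j)) 8192 = true := by decide +kernel
theorem chkKP_c_2 : allBelow (fun j => chkKP (Nat.add 16384 j)) 8095 = true := by decide +kernel

end Cfsg.Agent.Lib.Helper60.J3
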