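import Cfsg.Agent.Lib.Helper60.J3.ChkK0
import Cfsg.Agent.Lib.Helper60.J3.ChkK1
import Cfsg.Agent.Lib.Helper60.J3.ChkK2
import Cfsg.Agent.Lib.Helper60.J3.ChkK3
import Cfsg.Agent.Lib.Helper60.J3.ChkKP
import Cfsg.Agent.Lib.Helper60.J3.ChkC0
import Cfsg.Agent.Lib.Helper60.J3.ChkC1
import Cfsg.Agent.Lib.Helper60.J3.ChkC2
import Cfsg.Agent.Lib.Helper60.J3.ChkCP

/-! All table checks, assembled (generated). -/

set_option autoImplicit false

namespace Cfsg.Agent.Lib.Helper60.J3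

theorem chkKAB_all : ∀ j < 24480, chkKAB j = true := by
  intro j hj
  rcases Nat.lt_or_ge j 2048 with h0 | h0
  · exact allBelow_off chkKAB 0 2048 chkKAB_c_0 j (Nat.zero_le j) h0
  rcases Nat.lt_or_ge j 4096 with h1 | h1
  · exact allBelow_off chkKAB 2048 2048 chkKAB_c_1 j h0 h1
  rcases Nat.lt_or_ge j 6144 with h2 | h2
  · exact allBelow_off chkKAB 4096 2048 chkKAB_c_2 j h1 h2
  rcases Nat.lt_or_ge j 8192 with h3 | h3
  · exact allBelow_off chkKAB 6144 2048 chkKAB_c_3 j h2 h3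
  rcases Nat.lt_or_ge j 10240 with h4 | h4
  · exact allBelow_off chkKAB 8192 2048 chkKAB_c_4 j h3 h4
  rcases Nat.lt_or_ge j 12288 with h5 | h5
  · exact allBelow_off chkKAB 10240 2048 chkKAB_c_5 j h4 h5
  rcases Nat.lt_or_ge j 14336 with h6 | h6
  · exact allBelow_off chkKAB 12288 2048 chkKAB_c_6 j h5 h6
  rcases Nat.lt_or_ge j 16384 with h7 | h7
  · exact allBelow_off chkKAB 14336 2048 chkKAB_c_7 j h6 h7
  rcases Nat.lt_or_ge j 18432 with h8 | h8
  · exact allBelow_off chkKAB 16384 2048 chkKAB_c_8 j h7 h8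
  rcases Nat.lt_or_ge j 20480 with h9 | h9
  · exact allBelow_off chkKAB 18432 2048 chkKAB_c_9 j h8 h9
  rcases Nat.lt_or_ge j 22528 with h10 | h10
  · exact allBelow_off chkKAB 20480 2048 chkKAB_c_10 j h9 h10
  exact allBelow_off chkKAB 22528 1952 chkKAB_c_11 j h10 hj

theorem chkKP_all : ∀ j < 24479, chkKP j = true := by
  intro j hj
  rcases Nat.lt_or_ge j 8192 with h0 | h0
  · exact allBelow_off chkKP 0 8192 chkKP_c_0 j (Nat.zero_le j) h0
  rcases Nat.lt_or_ge j 16384 with h1 | h1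
  · exact allBelow_off chkKP 8192 8192 chkKP_c_1 j h0 h1
  exact allBelow_off chkKP 16384 8095 chkKP_c_2 j h1 hj

theorem chkCXY_all : ∀ j < 6156, chkCXY j = true := by
  intro j hj
  rcases Nat.lt_or_ge j 1026 with h0 | h0
  · exact allBelow_off chkCXY 0 1026 chkCXY_c_0 j (Nat.zero_le j) h0
  rcases Nat.lt_or_ge j 2052 with h1 | h1
  · exact allBelow_off chkCXY 1026 1026 chkCXY_c_1 j h0 h1
  rcases Nat.lt_or_ge j 3078 with h2 | h2
  · exact allBelow_off chkCXY 2052 1026 chkCXY_c_2 j h1 h2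
  rcases Nat.lt_or_ge j 4104 with h3 | h3
  · exact allBelow_off chkCXY 3078 1026 chkCXY_c_3 j h2 h3
  rcases Nat.lt_or_ge j 5130 with h4 | h4
  · exact allBelow_off chkCXY 4104 1026 chkCXY_c_4 j h3 h4
  exact allBelow_off chkCXY 5130 1026 chkCXY_c_5 j h4 hj

theorem chkCP_all : ∀ j < 6155, chkCP j = true := by
  intro j hj
  exact allBelow_off chkCP 0 6155 chkCP_c_0 j (Nat.zero_le j) hj


end Cfsg.Agent.Lib.Helper60.J3
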