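import Mathlib

/-!
Abstract group theory used for the Janko group `J₃`: a simplicity criterion through Sylow
subgroups and normal closures, and the permutation representation of a simple group on the
cosets of a subgroup.
-/

set_option autoImplicit false

namespace Cfsg.Agent.Lib.Helper60.J3

/-- induction on a closure through left multiplication by generators of finite order -/
theorem closure_left_ind' {G : Type*} [Group G] (s : Set G) (hs : ∀ x ∈ s, IsOfFinOrder x)
    (P : G → Prop) (h1 : P 1) (hmul : ∀ x ∈ s, ∀ y, P y → P (x * y)) :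
    ∀ g ∈ Subgroup.closure s, P g := by
  intro g hg
  have hpow : ∀ x ∈ s, ∀ (k : ℕ) y, P y → P (x ^ k * y) := by
    intro x hx k
    induction k with
    | zero => intro y hy; simpa using hy
    | succ k ih => intro y hy; rw [pow_succ', mul_assoc]; exact hmul x hx _ (ih y hy)
  refine Subgroup.closure_induction_left (p := fun x _ => P x) h1
    (fun x hx y _ hy => hmul x hx y hy) ?_ hg
  intro x hx y _ hy
  have hx1 : x⁻¹ = x ^ (orderOf x - 1) := by
    apply inv_eq_of_mul_eq_one_right
    rw [← pow_succ', Nat.sub_add_cancel (hs x hx).orderOf_pos, pow_orderOf_eq_one]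
  rw [hx1]
  exact hpow x hx _ y hy

/-- a nontrivial normal subgroup of a finite `p`-group contains a nontrivial central element -/
theorem exists_central_of_normal {P : Type*} [Group P] [Finite P] {p : ℕ} [Fact p.Prime]
    (hP : IsPGroup p P) (N : Subgroup P) [N.Normal] (hN : N ≠ ⊥) :
    ∃ z ∈ N, z ≠ 1 ∧ ∀ g : P, g * z = z * g := by
  have hNp : IsPGroup p N := hP.to_subgroup N
  have hnt : Nontrivial N := (Subgroup.nontrivial_iff_ne_bot N).mpr hN
  obtain ⟨n, hn0, hn⟩ := hNp.nontrivial_iff_card.mp hnt
  have dvd : p ∣ Nat.card N := hn.symm ▸ dvd_pow_self _ (ne_of_gt hn0)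
  have h1 : (1 : N) ∈ MulAction.fixedPoints (ConjAct P) N := by
    intro g
    apply Subtype.ext
    rw [ConjAct.Subgroup.val_conj_smul]
    simp
  obtain ⟨b, hb, hb1⟩ :=
    (hP.of_equiv ConjAct.toConjAct).exists_fixed_point_of_prime_dvd_card_of_fixed_point N dvd h1
  refine ⟨b.1, b.2, ?_, ?_⟩
  · intro h
    apply hb1
    apply Subtype.ext
    rw [h]; rfl
  · intro g
    have := hb (ConjAct.toConjAct g)
    have h2 := congrArg Subtype.val this
    rw [ConjAct.Subgroup.val_conj_smul, ConjAct.toConjAct_smul] at h2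
    calc g * b.1 = g * b.1 * g⁻¹ * g := by group
      _ = b.1 * g := by rw [h2]

/-- simplicity criterion: the group is generated by elements of prime order `q` with
`q ^ 2` not dividing the order, and for every other prime `p` some Sylow `p`-subgroup has the
property that the normal closure of each nontrivial central element contains an element of
order divisible by `q`. -/
theorem simple_of_sylow_certs {G : Type*} [Group G] [Finite G] [Nontrivial G] (q : ℕ)
    [hq : Fact q.Prime] (hq2 : ¬ q ^ 2 ∣ Nat.card G)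
    (S : Set G) (hS : Subgroup.closure S = ⊤) (hSq : ∀ s ∈ S, orderOf s = q)
    (hP : ∀ p : ℕ, p.Prime → p ∣ Nat.card G → p ≠ q →
      ∃ P : Subgroup G, IsPGroup p P ∧ ¬ p ∣ P.index ∧
        ∀ z ∈ P, z ≠ 1 → (∀ g ∈ P, g * z = z * g) →
          ∃ u ∈ Subgroup.normalClosure {z}, q ∣ orderOf u) :
    IsSimpleGroup G := by
  have hcard0 : Nat.card G ≠ 0 := Nat.card_pos.ne'
  -- Step A
  have stepA : ∀ N : Subgroup G, N.Normal → q ∣ Nat.card N → N = ⊤ := by
    intro N hN hqN
    obtain ⟨n, hn⟩ := exists_prime_orderOf_dvd_card' (G := N) q hqN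
    have hn' : orderOf (n : G) = q := by rw [Subgroup.orderOf_coe]; exact hn
    -- a Sylow q-subgroup has order q
    have hsyl : ∀ Q : Sylow q G, ∀ g : G, orderOf g = q → Subgroup.zpowers g ≤ Q →
        (Q : Subgroup G) = Subgroup.zpowers g := by
      intro Q g hg hle
      have hc := Q.card_eq_multiplicity
      have hk : (Nat.card G).factorization q < 2 := by
        by_contra hcon
        rw [not_lt] at hcon
        exact hq2 ((hq.out.pow_dvd_iff_le_factorization hcard0).mpr hcon)
      have hz : Nat.card (Subgroup.zpowers g) = q := by rw [Nat.card_zpowers, hg]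
      have hdvd : q ∣ Nat.card (Q : Subgroup G) := by
        have := Subgroup.card_dvd_of_le hle
        rwa [hz] at this
      have hk1 : (Nat.card G).factorization q = 1 := by
        rcases Nat.lt_succ_iff_lt_or_eq.mp hk with h0 | h1
        · have h00 : (Nat.card G).factorization q = 0 := by omega
          rw [hc, h00, pow_zero] at hdvd
          exact absurd (Nat.dvd_one.mp hdvd) hq.out.one_lt.ne'
        · exact h1
      rw [hk1, pow_one] at hc
      symm
      apply Subgroup.eq_of_le_of_card_ge hle
      rw [hz, hc]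
    have hpg : IsPGroup q (Subgroup.zpowers (n : G)) := by
      apply IsPGroup.of_card (n := 1)
      rw [Nat.card_zpowers, hn', pow_one]
    obtain ⟨Q1, hQ1⟩ := hpg.exists_le_sylow
    have hQ1e := hsyl Q1 n hn' hQ1
    rw [← top_le_iff, ← hS, Subgroup.closure_le]
    intro s hs
    have hsq := hSq s hs
    have hpg2 : IsPGroup q (Subgroup.zpowers s) := by
      apply IsPGroup.of_card (n := 1)
      rw [Nat.card_zpowers, hsq, pow_one]
    obtain ⟨Q2, hQ2⟩ := hpg2.exists_le_sylow
    have hQ2e := hsyl Q2 s hsq hQ2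
    obtain ⟨g, hg⟩ := MulAction.exists_smul_eq G Q1 Q2
    have hs2 : s ∈ ((g • Q1 : Sylow q G) : Subgroup G) := by
      rw [hg]; exact hQ2 (Subgroup.mem_zpowers s)
    rw [Sylow.smul_def, Sylow.pointwise_smul_def, Subgroup.mem_pointwise_smul_iff_inv_smul_mem,
      hQ1e] at hs2
    have h3 : MulAut.conj g⁻¹ s ∈ N := by
      have : Subgroup.zpowers (n : G) ≤ N := by
        rw [Subgroup.zpowers_le]; exact n.2
      apply this
      simpa [MulAut.smul_def] using hs2
    have h4 := hN.conj_mem _ h3 g
    simpa [MulAut.conj_apply, mul_assoc] using h4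
  constructor
  intro N hN
  by_cases hbot : N = ⊥
  · left; exact hbot
  right
  have hN1 : Nat.card N ≠ 1 := by
    intro h
    exact hbot (Subgroup.card_eq_one.mp h)
  obtain ⟨p, hp, hpN⟩ := Nat.exists_prime_and_dvd hN1
  by_cases hpq : p = q
  · subst hpq; exact stepA N hN hpN
  have hpG : p ∣ Nat.card G := dvd_trans hpN (Subgroup.card_subgroup_dvd_card N)
  obtain ⟨P, hPp, hidx, hcert⟩ := hP p hp hpG hpq
  have : Fact p.Prime := ⟨hp⟩
  obtain ⟨n, hn⟩ := exists_prime_orderOf_dvd_card' (G := N) p hpN
  have hn' : orderOf (n : G) = p := by rw [Subgroup.orderOf_coe]; exact hn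
  have hpg : IsPGroup p (Subgroup.zpowers (n : G)) := by
    apply IsPGroup.of_card (n := 1)
    rw [Nat.card_zpowers, hn', pow_one]
  obtain ⟨Q, hQ⟩ := hpg.exists_le_sylow
  obtain ⟨g, hg⟩ := MulAction.exists_smul_eq G Q (hPp.toSylow hidx)
  -- the conjugate of n lies in P ⊓ N
  have hz0P : g * n * g⁻¹ ∈ P := by
    have h1 : (n : G) ∈ (Q : Subgroup G) := hQ (Subgroup.mem_zpowers _)
    have h2 : g * n * g⁻¹ ∈ ((g • Q : Sylow p G) : Subgroup G) := by
      rw [Sylow.smul_def, Sylow.pointwise_smul_def, Subgroup.mem_pointwise_smul_iff_inv_smul_mem]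
      simpa [MulAut.smul_def, mul_assoc] using h1
    rw [hg] at h2
    exact (IsPGroup.mem_toSylow hPp hidx).mp h2
  have hz0N : g * n * g⁻¹ ∈ N := hN.conj_mem _ n.2 g
  have hz01 : g * (n : G) * g⁻¹ ≠ 1 := by
    intro h
    have h1 : (n : G) = 1 := by
      have := congrArg (fun t => g⁻¹ * t * g) h
      simpa [mul_assoc] using this
    rw [h1, orderOf_one] at hn'
    exact hp.one_lt.ne hn'
  have : (N.subgroupOf P).Normal := hN.subgroupOf P
  have hne : N.subgroupOf P ≠ ⊥ := by
    intro h
    have hmem : (⟨g * n * g⁻¹, hz0P⟩ : P) ∈ N.subgroupOf P := Subgroup.mem_subgroupOf.mpr hz0N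
    rw [h, Subgroup.mem_bot] at hmem
    exact hz01 (congrArg Subtype.val hmem)
  obtain ⟨z, hzN, hz1, hzc⟩ := exists_central_of_normal (p := p) hPp (N.subgroupOf P) hne
  have hzN' : (z : G) ∈ N := Subgroup.mem_subgroupOf.mp hzN
  obtain ⟨u, hu, hqu⟩ := hcert z z.2 (fun h => hz1 (Subtype.ext h))
    (fun g hg => congrArg Subtype.val (hzc ⟨g, hg⟩))
  have huN : u ∈ N := by
    have : Subgroup.normalClosure {(z : G)} ≤ N :=
      Subgroup.normalClosure_le_normal (Set.singleton_subset_iff.mpr hzN')
    exact this hu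
  apply stepA N hN
  have : orderOf (⟨u, huN⟩ : N) ∣ Nat.card N := orderOf_dvd_natCard _
  rw [← Subgroup.orderOf_coe] at this
  exact dvd_trans hqu this

/-- a finite simple group with a subgroup of index `n > 1` is a transitive permutation group
of degree `n`. -/
theorem exists_perm_rep {G : Type*} [Group G] [Finite G] [IsSimpleGroup G] (K : Subgroup G)
    (n : ℕ) [NeZero n] (hn : K.index = n) (hn1 : 1 < n) :
    ∃ H : Subgroup (Equiv.Perm (Fin n)), Nonempty (G ≃* H) ∧
      MulAction.IsPretransitive H (Fin n) ∧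
      Nat.card (MulAction.stabilizer H (0 : Fin n)) * n = Nat.card G := by
  classical
  have hcard : Nat.card (G ⧸ K) = n := hn
  let e : G ⧸ K ≃ Fin n := Finite.equivFinOfCardEq hcard
  let φ : G →* Equiv.Perm (G ⧸ K) := MulAction.toPermHom G (G ⧸ K)
  let ρ : G →* Equiv.Perm (Fin n) := (e.permCongrHom : _ →* _).comp φ
  have hρ : ∀ g a, ρ g a = e (g • e.symm a) := fun g a => rfl
  have hinj : Function.Injective ρ := by
    rw [← MonoidHom.ker_eq_bot_iff]
    rcases (MonoidHom.normal_ker ρ).eq_bot_or_eq_top with h | h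
    · exact h
    · exfalso
      have hK : K = ⊤ := by
        rw [eq_top_iff]
        intro g _
        have hg : g ∈ MonoidHom.ker ρ := by rw [h]; trivial
        rw [MonoidHom.mem_ker] at hg
        have h1 := congrFun (congrArg (fun (f : Equiv.Perm (Fin n)) => (f : Fin n → Fin n)) hg)
          (e ((1 : G) : G ⧸ K))
        simp only [hρ, Equiv.symm_apply_apply, Equiv.Perm.coe_one, id_eq] at h1
        have h2 := e.injective h1
        rw [MulAction.Quotient.smul_mk, smul_eq_mul, mul_one] at h2
        have h3 := QuotientGroup.eq.mp h2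
        simpa using h3
      rw [hK, Subgroup.index_top] at hn
      omega
  refine ⟨ρ.range, ⟨MonoidHom.ofInjective hinj⟩, ?_, ?_⟩
  · have hpt : MulAction.IsPretransitive ρ.range (Fin n) := by
      constructor
      intro a b
      obtain ⟨g, hg⟩ := MulAction.exists_smul_eq G (e.symm a) (e.symm b)
      refine ⟨⟨ρ g, ⟨g, rfl⟩⟩, ?_⟩
      change ρ g a = b
      rw [hρ, hg, Equiv.apply_symm_apply]
    exact hpt
  · have hpt : MulAction.IsPretransitive ρ.range (Fin n) := by
      constructor
      intro a b
      obtain ⟨g, hg⟩ := MulAction.exists_smul_eq G (e.symm a) (e.symm b)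
      refine ⟨⟨ρ g, ⟨g, rfl⟩⟩, ?_⟩
      change ρ g a = b
      rw [hρ, hg, Equiv.apply_symm_apply]
    have h1 := Subgroup.card_eq_card_quotient_mul_card_subgroup
      (MulAction.stabilizer ρ.range (0 : Fin n))
    have h2 : Nat.card (ρ.range ⧸ MulAction.stabilizer ρ.range (0 : Fin n)) = n := by
      rw [← Nat.card_congr (MulAction.orbitEquivQuotientStabilizer ρ.range (0 : Fin n)),
        MulAction.orbit_eq_univ, Nat.card_congr (Equiv.Set.univ (Fin n)), Nat.card_fin]
    rw [h2] at h1
    rw [mul_comm, ← h1]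
    exact (Nat.card_congr (MonoidHom.ofInjective hinj).toEquiv).symm

end Cfsg.Agent.Lib.Helper60.J3
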