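import Cfsg.Agent.Lib.Helper60.J3.InvData

/-! Small checks for the involutions and the outer automorphism (generated). -/

set_option autoImplicit false

namespace Cfsg.Agent.Lib.Helper60.J3

theorem chkXP_all : allBelow chkXP 17 = true := by decide +kernel
theorem chkGT_all : allBelow chkGT 289 = true := by decide +kernel
theorem chkD2_all : allBelow chkD2 128 = true := by decide +kernel
theorem YW_eq : YW = Yp := by decide +kernel
theorem T1_sq : mulP T1p T1p = oneP := by decide +kernel
theorem T1_notSc : notSc T1p = true := by decide +kernel
theorem T1_dec : mulP (getC 3964) (getK 10354) = T1p := by decide +kernel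
theorem T1_rel8 : powP (mulP (XPt 8) T1p) 3 = oneP := by decide +kernel
theorem T1_rel2 : powP (mulP (XPt 2) T1p) 4 = Z2p := by decide +kernel
theorem getR_401 : getR 401 = T1p := by decide +kernel
theorem getR_980 : getR 980 = T2p := by decide +kernel
theorem Np_dec : mulP (getC 4733) (getK 12461) = Np := by decide +kernel
theorem Np_rel : mulP Np Xp = mulP (mulP Xp Xp) Np := by decide +kernel
theorem Bs_mul : mulP Bsp Bsi = oneP := by decide +kernel
theorem Bs_mul' : mulP Bsi Bsp = oneP := by decide +kernel
theorem sig_X : sigP Xp = Xp := by decide +kernel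
theorem sig_Y : sigP Yp = Ysp := by decide +kernel
theorem Ysp_dec : mulP (getC 1625) (getK 20071) = Ysp := by decide +kernel
theorem sig_T1 : sigP T1p = T2p := by decide +kernel
theorem sig_Z1 : sigP Z1p = Z2p := by decide +kernel

end Cfsg.Agent.Lib.Helper60.J3
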