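import Cfsg.Agent.Lib.Helper60.J3.Inst
import Cfsg.Agent.Lib.Helper60.J3.InvChkS

/-!
The semilinear map `M ↦ B * M^φ * B⁻¹` (with `φ` the Frobenius map) and the automorphism of the
matrix group induced by it.
-/

set_option autoImplicit false

namespace Cfsg.Agent.Lib.Helper60.J3

theorem sq_hi (a : F4) : (sqHom a).hi = a.hi := by revert a; decide
theorem sq_lo (a : F4) : (sqHom a).lo = (a.lo ^^ a.hi) := by revert a; decide

theorem frobP_hi (m e : ℕ) (he : e < 81) :
    (frobP m).testBit (2 * e + 1) = m.testBit (2 * e + 1) := by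
  change (m ^^^ ((m &&& MHI) >>> 1)).testBit (2 * e + 1) = _
  rw [Nat.testBit_xor, Nat.testBit_shiftRight, Nat.testBit_and]
  have h := MHI_even (e + 1) (by omega)
  have e1 : 1 + (2 * e + 1) = 2 * (e + 1) := by omega
  rw [e1, h]
  simp

theorem frobP_lo (m e : ℕ) (he : e < 81) :
    (frobP m).testBit (2 * e) = (m.testBit (2 * e) ^^ m.testBit (2 * e + 1)) := by
  change (m ^^^ ((m &&& MHI) >>> 1)).testBit (2 * e) = _
  rw [Nat.testBit_xor, Nat.testBit_shiftRight, Nat.testBit_and]
  have h := MHI_odd e he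
  have e1 : 1 + 2 * e = 2 * e + 1 := by omega
  rw [e1, h]
  simp

theorem toMat_frobP (m : ℕ) : toMat (frobP m) = (toMat m).map sqHom := by
  ext i j
  · rw [Matrix.map_apply, sq_hi]
    change (frobP m).testBit (18 * i.val + 2 * j.val + 1) = m.testBit (18 * i.val + 2 * j.val + 1)
    have e : 18 * i.val + 2 * j.val = 2 * (9 * i.val + j.val) := by omega
    rw [e]
    exact frobP_hi m _ (by omega)
  · rw [Matrix.map_apply, sq_lo]
    change (frobP m).testBit (18 * i.val + 2 * j.val) =
      (m.testBit (18 * i.val + 2 * j.val) ^^ m.testBit (18 * i.val + 2 * j.val + 1))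
    have e : 18 * i.val + 2 * j.val = 2 * (9 * i.val + j.val) := by omega
    rw [e]
    exact frobP_lo m _ (by omega)

theorem Bs_inv : toMat Bsi * toMat Bsp = 1 := by rw [toMat_mul_eq Bs_mul', toMat_oneP]
theorem Bs_inv' : toMat Bsp * toMat Bsi = 1 := by rw [toMat_mul_eq Bs_mul, toMat_oneP]

/-- the semilinear map `M ↦ B * M^φ * B⁻¹` -/
def tauHom : Mat →* Mat where
  toFun M := toMat Bsp * M.map sqHom * toMat Bsi
  map_one' := by
    rw [Matrix.map_one _ (map_zero sqHom) (map_one sqHom), mul_one, Bs_inv']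
  map_mul' := by
    intro M N
    rw [Matrix.map_mul]
    calc toMat Bsp * (M.map sqHom * N.map sqHom) * toMat Bsi
        = toMat Bsp * M.map sqHom * 1 * N.map sqHom * toMat Bsi := by
          rw [mul_one]; simp only [mul_assoc]
      _ = toMat Bsp * M.map sqHom * toMat Bsi * (toMat Bsp * N.map sqHom * toMat Bsi) := by
          rw [← Bs_inv]; simp only [mul_assoc]

theorem tauHom_apply (M : Mat) : tauHom M = toMat Bsp * M.map sqHom * toMat Bsi := rfl

theorem tauHom_toMat (m : ℕ) : tauHom (toMat m) = toMat (sigP m) := by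
  rw [tauHom_apply, sigP, toMat_mulP, toMat_mulP, toMat_frobP]

theorem tauHom_inj : Function.Injective tauHom := by
  intro M N h
  rw [tauHom_apply, tauHom_apply] at h
  have h2 : M.map sqHom = N.map sqHom := by
    calc M.map sqHom = toMat Bsi * (toMat Bsp * M.map sqHom * toMat Bsi) * toMat Bsp := by
          simp only [mul_assoc]; rw [Bs_inv, mul_one, ← mul_assoc, Bs_inv, one_mul]
      _ = toMat Bsi * (toMat Bsp * N.map sqHom * toMat Bsi) * toMat Bsp := by rw [h]
      _ = N.map sqHom := by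
          simp only [mul_assoc]; rw [Bs_inv, mul_one, ← mul_assoc, Bs_inv, one_mul]
  exact Matrix.map_injective sqHom.injective h2

section
variable {𝒢 : Type*} [Group 𝒢] {ψ : 𝒢 →* Mat} (hψ : Function.Injective ψ) {x y : 𝒢}
  (hx : ψ x = toMat Xp) (hy : ψ y = toMat Yp)

include hψ hx hy in
/-- an injective multiplicative map of matrices sending the two generators into the group
induces an automorphism of the group -/
theorem exists_sigma (τ : Mat →* Mat) (hτ : Function.Injective τ)
    (hτx : ∃ g ∈ Hg x y, ψ g = τ (ψ x)) (hτy : ∃ g ∈ Hg x y, ψ g = τ (ψ y)) :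
    ∃ σ : Hg x y ≃* Hg x y, ∀ h : Hg x y, ψ (σ h : 𝒢) = τ (ψ (h : 𝒢)) := by
  have hfin := Hg_finite hψ hx hy
  have key : ∀ h ∈ Hg x y, ∃ h' ∈ Hg x y, ψ h' = τ (ψ h) := by
    apply closure_left_ind'
    · intro g hg
      rcases hg with rfl | rfl
      · exact isOfFinOrder_iff_pow_eq_one.mpr ⟨17, by norm_num, x_pow hψ hx⟩
      · exact isOfFinOrder_iff_pow_eq_one.mpr ⟨17, by norm_num, y_pow hψ hy⟩
    · exact ⟨1, (Hg x y).one_mem, by simp⟩
    · rintro g hg h ⟨h', hh', hv⟩
      rcases hg with hg | hg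
      · obtain ⟨g', hg', hgv⟩ := hτx
        rw [hg]
        exact ⟨g' * h', (Hg x y).mul_mem hg' hh', by rw [map_mul, map_mul, map_mul, hgv, hv]⟩
      · rw [Set.mem_singleton_iff] at hg
        obtain ⟨g', hg', hgv⟩ := hτy
        rw [hg]
        exact ⟨g' * h', (Hg x y).mul_mem hg' hh', by rw [map_mul, map_mul, map_mul, hgv, hv]⟩
  choose f hf hfv using fun h : Hg x y => key h.1 h.2
  let σ0 : Hg x y →* Hg x y := MonoidHom.mk' (fun h => ⟨f h, hf h⟩) (by
    intro a b
    apply Subtype.ext
    apply hψ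
    simp only [Subgroup.coe_mul, map_mul, hfv])
  have hinj : Function.Injective σ0 := by
    intro a b hab
    have h1 : f a = f b := congrArg Subtype.val hab
    apply Subtype.ext
    apply hψ
    apply hτ
    rw [← hfv a, ← hfv b, h1]
  have hbij : Function.Bijective σ0 := Finite.injective_iff_bijective.mp hinj
  exact ⟨MulEquiv.ofBijective σ0 hbij, fun h => hfv h⟩

end

end Cfsg.Agent.Lib.Helper60.J3
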