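import Cfsg.Agent.Lib.Helper60.J3.Spec3
import Cfsg.Prelude.Def_Classical

/-!
The two generating matrices as elements of the special unitary group `SU(9, 4)`, and the
resulting subgroup: a triple cover of the Janko group `J₃`.
-/

set_option autoImplicit false

namespace Cfsg.Agent.Lib.Helper60.J3

open Matrix

/-- the Frobenius map of the field with four elements -/
def sqHom : F4 →+* F4 where
  toFun a := a ^ 2
  map_one' := by decide
  map_mul' := by decide
  map_zero' := by decide
  map_add' := by decide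

theorem herm_of_unitary (M : Mat) (h : (M.map sqHom)ᵀ * M = 1) (u v : Fin 9 → F4) :
    Cfsg.hermForm 9 F4 2 (M *ᵥ u) (M *ᵥ v) = Cfsg.hermForm 9 F4 2 u v := by
  have h' : Mᵀ * M.map sqHom = 1 := by
    have := congrArg Matrix.transpose h
    rwa [Matrix.transpose_mul, Matrix.transpose_transpose, Matrix.transpose_one] at this
  have key : ∀ a b : Fin 9 → F4, Cfsg.hermForm 9 F4 2 a b = a ⬝ᵥ (sqHom ∘ b) := by
    intro a b; rfl
  rw [key, key]
  have e1 : sqHom ∘ (M *ᵥ v) = M.map sqHom *ᵥ (sqHom ∘ v) := by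
    funext i
    exact RingHom.map_mulVec sqHom M v i
  rw [e1, ← Matrix.vecMul_transpose, ← Matrix.dotProduct_mulVec, Matrix.mulVec_mulVec, h',
    Matrix.one_mulVec]

theorem det_eq_one_of_pow {M : Mat} (h : M ^ 17 = 1) : M.det = 1 := by
  have h1 := congrArg Matrix.det h
  rw [Matrix.det_pow, Matrix.det_one] at h1
  have key : ∀ a : F4, a ^ 17 = 1 → a = 1 := by decide
  exact key _ h1

theorem Xi_mul : mulP Xi Xp = oneP := by decide +kernel
theorem Yi_mul : mulP Yi Yp = oneP := by decide +kernel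
theorem Xi_conj : ((toMat Xp).map sqHom)ᵀ = toMat Xi := by decide +kernel
theorem Yi_conj : ((toMat Yp).map sqHom)ᵀ = toMat Yi := by decide +kernel

theorem Xp_unitary : ((toMat Xp).map sqHom)ᵀ * toMat Xp = 1 := by
  rw [Xi_conj, toMat_mul_eq Xi_mul, toMat_oneP]

theorem Yp_unitary : ((toMat Yp).map sqHom)ᵀ * toMat Yp = 1 := by
  rw [Yi_conj, toMat_mul_eq Yi_mul, toMat_oneP]

/-- the first generator in the special linear group -/
def xSL : Matrix.SpecialLinearGroup (Fin 9) F4 :=
  ⟨toMat Xp, det_eq_one_of_pow (by rw [← toMat_powP, Xp_pow, toMat_oneP])⟩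

/-- the second generator in the special linear group -/
def ySL : Matrix.SpecialLinearGroup (Fin 9) F4 :=
  ⟨toMat Yp, det_eq_one_of_pow (by rw [← toMat_powP, Yp_pow, toMat_oneP])⟩

theorem slToMat_val (A : Matrix.SpecialLinearGroup (Fin 9) F4) :
    Cfsg.slToMat 9 F4 A = A.1 := rfl

/-- the first generator in the special unitary group -/
def xSU : Cfsg.SU 9 F4 2 :=
  ⟨xSL, fun u v => herm_of_unitary (toMat Xp) Xp_unitary u v⟩

/-- the second generator in the special unitary group -/
def ySU : Cfsg.SU 9 F4 2 :=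
  ⟨ySL, fun u v => herm_of_unitary (toMat Yp) Yp_unitary u v⟩

/-- the matrix of an element of the special unitary group -/
def ψSU : Cfsg.SU 9 F4 2 →* Mat := (Cfsg.slToMat 9 F4).comp (Cfsg.SU 9 F4 2).subtype

theorem ψSU_inj : Function.Injective ψSU := by
  intro a b h
  apply Subtype.ext
  apply Subtype.ext
  exact h

theorem ψSU_x : ψSU xSU = toMat Xp := rfl
theorem ψSU_y : ψSU ySU = toMat Yp := rfl

/-- a triple cover of `J₃` inside `SU(9, 4)` -/
theorem su_main : Nat.card (Subgroup.center (Hg xSU ySU)) = 3 ∧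
    Nat.card (Hg xSU ySU) = 150698880 ∧
    Nat.card (Hg xSU ySU ⧸ Subgroup.center (Hg xSU ySU)) = 50232960 ∧
    IsSimpleGroup (Hg xSU ySU ⧸ Subgroup.center (Hg xSU ySU)) :=
  main_center ψSU_inj ψSU_x ψSU_y

/-- `J₃` as a permutation group of degree 6156 -/
theorem perm_main : ∃ H : Subgroup (Equiv.Perm (Fin 6156)),
    IsSimpleGroup H ∧ Nat.card H = 50232960 ∧ MulAction.IsPretransitive H (Fin 6156) ∧
      Nat.card (MulAction.stabilizer H (0 : Fin 6156)) = 8160 :=
  perm_rep ψSU_inj ψSU_x ψSU_y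

end Cfsg.Agent.Lib.Helper60.J3
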