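import Cfsg.Agent.Lib.Helper60.J3.InvData

/-! Closure checks for the set of involutions (generated). -/

set_option autoImplicit false

namespace Cfsg.Agent.Lib.Helper60.J3

theorem chkCl_c_4 : allBelow (fun j => chkCl (Nat.add 8192 j)) 2048 = true := by decide +kernel
theorem chkCl_c_5 : allBelow (fun j => chkCl (Nat.add 10240 j)) 2048 = true := by decide +kernel
theorem chkCl_c_6 : allBelow (fun j => chkCl (Nat.add 12288 j)) 2048 = true := by decide +kernel
theorem chkCl_c_7 : allBelow (fun j => chkCl (Nat.add 14336 j)) 2048 = true := by decide +kernel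

end Cfsg.Agent.Lib.Helper60.J3
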