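import Cfsg.Agent.Lib.Helper60.J3.InvData

/-! Closure checks for the set of involutions (generated). -/

set_option autoImplicit false

namespace Cfsg.Agent.Lib.Helper60.J3

theorem chkCl_c_12 : allBelow (fun j => chkCl (Nat.add 24576 j)) 1587 = true := by decide +kernel

end Cfsg.Agent.Lib.Helper60.J3
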