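import Cfsg.Agent.Lib.Helper60.J3.InvData

/-! Fingerprint checks for the involutions (generated). -/

set_option autoImplicit false

namespace Cfsg.Agent.Lib.Helper60.J3

theorem chkF1_c_0 : allBelow (fun j => chkF1 (Nat.add 0 j)) 1539 = true := by decide +kernel
theorem chkF3_c_0 : allBelow (fun j => chkF3 (Nat.add 0 j)) 1539 = true := by decide +kernel

end Cfsg.Agent.Lib.Helper60.J3
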