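import Cfsg.Agent.Lib.Helper60.J3.InvChk0
import Cfsg.Agent.Lib.Helper60.J3.InvChk1
import Cfsg.Agent.Lib.Helper60.J3.InvChk2
import Cfsg.Agent.Lib.Helper60.J3.InvChk3
import Cfsg.Agent.Lib.Helper60.J3.InvChkS
import Cfsg.Agent.Lib.Helper60.J3.InvChkF

/-! All checks for the involutions, assembled (generated). -/

set_option autoImplicit false

namespace Cfsg.Agent.Lib.Helper60.J3

theorem chkCl_all : ∀ j < 26163, chkCl j = true := by
  intro j hj
  rcases Nat.lt_or_ge j 2048 with h0 | h0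
  · exact allBelow_off chkCl 0 2048 chkCl_c_0 j (Nat.zero_le j) h0
  rcases Nat.lt_or_ge j 4096 with h1 | h1
  · exact allBelow_off chkCl 2048 2048 chkCl_c_1 j h0 h1
  rcases Nat.lt_or_ge j 6144 with h2 | h2
  · exact allBelow_off chkCl 4096 2048 chkCl_c_2 j h1 h2
  rcases Nat.lt_or_ge j 8192 with h3 | h3
  · exact allBelow_off chkCl 6144 2048 chkCl_c_3 j h2 h3
  rcases Nat.lt_or_ge j 10240 with h4 | h4
  · exact allBelow_off chkCl 8192 2048 chkCl_c_4 j h3 h4
  rcases Nat.lt_or_ge j 12288 with h5 | h5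
  · exact allBelow_off chkCl 10240 2048 chkCl_c_5 j h4 h5
  rcases Nat.lt_or_ge j 14336 with h6 | h6
  · exact allBelow_off chkCl 12288 2048 chkCl_c_6 j h5 h6
  rcases Nat.lt_or_ge j 16384 with h7 | h7
  · exact allBelow_off chkCl 14336 2048 chkCl_c_7 j h6 h7
  rcases Nat.lt_or_ge j 18432 with h8 | h8
  · exact allBelow_off chkCl 16384 2048 chkCl_c_8 j h7 h8
  rcases Nat.lt_or_ge j 20480 with h9 | h9
  · exact allBelow_off chkCl 18432 2048 chkCl_c_9 j h8 h9
  rcases Nat.lt_or_ge j 22528 with h10 | h10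
  · exact allBelow_off chkCl 20480 2048 chkCl_c_10 j h9 h10
  rcases Nat.lt_or_ge j 24576 with h11 | h11
  · exact allBelow_off chkCl 22528 2048 chkCl_c_11 j h10 h11
  exact allBelow_off chkCl 24576 1587 chkCl_c_12 j h11 hj

theorem chkF1_all : ∀ j < 1539, chkF1 j = true := by
  intro j hj
  exact allBelow_off chkF1 0 1539 chkF1_c_0 j (Nat.zero_le j) hj

theorem chkF3_all : ∀ j < 1539, chkF3 j = true := by
  intro j hj
  exact allBelow_off chkF3 0 1539 chkF3_c_0 j (Nat.zero_le j) hj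


end Cfsg.Agent.Lib.Helper60.J3
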