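import Cfsg.Agent.Lib.Helper60.J3.Spec3
import Cfsg.Agent.Lib.Helper60.J3.InvChkAll

/-!
The involutions of the matrix group: every involution is conjugate, under a power of the first
generator, to one of 1539 explicit matrices.
-/

set_option autoImplicit false

namespace Cfsg.Agent.Lib.Helper60.J3

theorem XPt_spec (i : ℕ) (hi : i < 17) : toMat (XPt i) = toMat Xp ^ i := by
  have h := allBelow_spec chkXP 17 chkXP_all i hi
  rw [Nat.eq_of_beq_eq_true h, toMat_powP]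

theorem Xp_pow17 : toMat Xp ^ 17 = 1 := by
  rw [← toMat_powP, Xp_pow, toMat_oneP]

theorem Xp_pow_mod (i : ℕ) : toMat Xp ^ i = toMat Xp ^ (i % 17) := by
  conv_lhs => rw [← Nat.div_add_mod i 17]
  rw [pow_add, pow_mul, Xp_pow17, one_pow, one_mul]

theorem GT_spec (i j : ℕ) (hi : i < 17) (hj : j < 17) :
    toMat Yp * toMat Xp ^ i * toMat (GTt (17 * i + j)) = toMat Xp ^ j := by
  have h := allBelow_spec chkGT 289 chkGT_all (17 * i + j) (by omega)
  have h' := Nat.eq_of_beq_eq_true h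
  have e1 : Nat.div (17 * i + j) 17 = i := by change (17 * i + j) / 17 = i; omega
  have e2 : Nat.mod (17 * i + j) 17 = j := by change (17 * i + j) % 17 = j; omega
  rw [e1, e2] at h'
  rw [← XPt_spec i hi, ← XPt_spec j hj, ← h', toMat_mulP, toMat_mulP]

theorem Cl_spec (o i : ℕ) (ho : o < 1539) (hi : i < 17) :
    ∃ o' < 1539, ∃ j < 17, toMat (getR o) * toMat (GTt (17 * i + j)) =
      toMat (GTt (17 * i + j)) * toMat (getR o') := by
  have h := chkCl_all (17 * o + i) (by omega)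
  simp only [chkCl, Bool.and_eq_true, Nat.blt_eq] at h
  obtain ⟨h1, h2⟩ := h
  have h2' := Nat.eq_of_beq_eq_true h2
  have e1 : Nat.div (17 * o + i) 17 = o := by change (17 * o + i) / 17 = o; omega
  have e2 : Nat.mod (17 * o + i) 17 = i := by change (17 * o + i) % 17 = i; omega
  rw [e1, e2] at h2'
  refine ⟨nxtI (17 * o + i) / 17, by omega, nxtI (17 * o + i) % 17, Nat.mod_lt _ (by norm_num), ?_⟩
  rw [← toMat_mulP, ← toMat_mulP]
  exact congrArg toMat h2'

section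
variable {𝒢 : Type*} [Group 𝒢] {ψ : 𝒢 →* Mat} (hψ : Function.Injective ψ) {x y : 𝒢}
  (hx : ψ x = toMat Xp) (hy : ψ y = toMat Yp)

variable (ψ) in
/-- the element is conjugate, under a power of the first generator, to a listed matrix -/
def InS (u : 𝒢) : Prop :=
  ∃ o < 1539, ∃ i : ℕ, ψ u * toMat Xp ^ i = toMat Xp ^ i * toMat (getR o)

include hx in
theorem InS_conj_x {u : 𝒢} (h : InS ψ u) : InS ψ (x * u * x⁻¹) := by
  obtain ⟨o, ho, i, hi⟩ := h
  refine ⟨o, ho, i + 1, ?_⟩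
  have e : ψ x⁻¹ * toMat Xp = 1 := by rw [← hx, ← map_mul, inv_mul_cancel, map_one]
  calc ψ (x * u * x⁻¹) * toMat Xp ^ (i + 1)
      = ψ x * ψ u * (ψ x⁻¹ * toMat Xp) * toMat Xp ^ i := by
        rw [map_mul, map_mul, pow_succ']; simp only [mul_assoc]
    _ = toMat Xp * (ψ u * toMat Xp ^ i) := by rw [e, mul_one, hx, mul_assoc]
    _ = toMat Xp ^ (i + 1) * toMat (getR o) := by rw [hi, ← mul_assoc, ← pow_succ']

include hy in
theorem InS_conj_y {u : 𝒢} (h : InS ψ u) : InS ψ (y * u * y⁻¹) := by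
  obtain ⟨o, ho, i, hi⟩ := h
  rw [Xp_pow_mod i] at hi
  have hi17 : i % 17 < 17 := Nat.mod_lt _ (by norm_num)
  obtain ⟨o', ho', j, hj, hc⟩ := Cl_spec o (i % 17) ho hi17
  have hG := GT_spec (i % 17) j hi17 hj
  refine ⟨o', ho', j, ?_⟩
  have e : ψ y⁻¹ * toMat Yp = 1 := by rw [← hy, ← map_mul, inv_mul_cancel, map_one]
  calc ψ (y * u * y⁻¹) * toMat Xp ^ j
      = ψ y * ψ u * (ψ y⁻¹ * toMat Yp) * toMat Xp ^ (i % 17) * toMat (GTt (17 * (i % 17) + j)) := by
        rw [map_mul, map_mul, ← hG]; simp only [mul_assoc]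
    _ = toMat Yp * (ψ u * toMat Xp ^ (i % 17)) * toMat (GTt (17 * (i % 17) + j)) := by
        rw [e, mul_one, hy]; simp only [mul_assoc]
    _ = toMat Yp * toMat Xp ^ (i % 17) * (toMat (getR o) * toMat (GTt (17 * (i % 17) + j))) := by
        rw [hi]; simp only [mul_assoc]
    _ = toMat Xp ^ j * toMat (getR o') := by rw [hc, ← mul_assoc, hG]

include hψ hx hy in
theorem InS_conj : ∀ h ∈ Hg x y, ∀ u : 𝒢, InS ψ u → InS ψ (h * u * h⁻¹) := by
  apply closure_left_ind'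
  · intro g hg
    rcases hg with rfl | rfl
    · exact isOfFinOrder_iff_pow_eq_one.mpr ⟨17, by norm_num, x_pow hψ hx⟩
    · exact isOfFinOrder_iff_pow_eq_one.mpr ⟨17, by norm_num, y_pow hψ hy⟩
  · intro u hu
    simpa using hu
  · intro g hg h ih u hu
    have e : g * h * u * (g * h)⁻¹ = g * (h * u * h⁻¹) * g⁻¹ := by group
    rw [e]
    rcases hg with hg | hg
    · rw [hg]; exact InS_conj_x hx (ih u hu)
    · rw [Set.mem_singleton_iff] at hg
      rw [hg]; exact InS_conj_y hy (ih u hu)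

include hψ hx hy in
theorem InS_of_mem_P2 {g : 𝒢} (hg : g ∈ Pg ψ D2 x y) (h2 : g ^ 2 = 1) (h1 : g ≠ 1) :
    InS ψ g := by
  obtain ⟨j, hj, hjv⟩ := P_sub hψ hx hy ok2 g hg
  have h := allBelow_spec chkD2 128 chkD2_all j hj
  simp only [chkD2, Bool.or_eq_true, Bool.and_eq_true, Nat.blt_eq] at h
  rcases h with (h | h) | ⟨h3, h4⟩
  · exfalso
    apply toMat_ne' h
    rw [toMat_mulP, ← hjv, ← map_mul, ← pow_two, h2, map_one, toMat_oneP]
  · exfalso
    apply h1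
    apply hψ
    rw [hjv, Nat.eq_of_beq_eq_true h, toMat_oneP, map_one]
  · have h4' := congrArg toMat (Nat.eq_of_beq_eq_true h4)
    have e : Nat.mod (dinvT j) 17 = dinvT j % 17 := rfl
    have e' : Nat.div (dinvT j) 17 = dinvT j / 17 := rfl
    rw [e, e'] at h4'
    rw [toMat_mulP, toMat_mulP, XPt_spec _ (Nat.mod_lt _ (by norm_num))] at h4'
    refine ⟨dinvT j / 17, by omega, dinvT j % 17, ?_⟩
    rw [hjv]
    exact h4'

include hψ hx hy in
/-- every involution of the group is conjugate, under a power of the first generator, to one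
of the listed matrices -/
theorem inv_cover (u : Hg x y) (h2 : u ^ 2 = 1) (h1 : u ≠ 1) : InS ψ (u : 𝒢) := by
  have hfin := Hg_finite hψ hx hy
  have hcH := card_Hg hψ hx hy
  have : Fact (Nat.Prime 2) := ⟨by norm_num⟩
  have hcard : Nat.card ((Pg ψ D2 x y).subgroupOf (Hg x y)) = 2 ^ 7 := by
    have h := card_Pg hψ hx hy ok2
    rw [D2N] at h
    rw [← Nat.card_congr (Subgroup.subgroupOfEquivOfLe (Pg_le D2)).toEquiv] at h
    rw [h]; norm_num
  have hPp : IsPGroup 2 ((Pg ψ D2 x y).subgroupOf (Hg x y)) := IsPGroup.of_card hcard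
  have hidx : ¬ 2 ∣ ((Pg ψ D2 x y).subgroupOf (Hg x y)).index := by
    have h := ((Pg ψ D2 x y).subgroupOf (Hg x y)).index_mul_card
    rw [hcard, hcH] at h
    omega
  have ho : orderOf u = 2 := orderOf_eq_prime h2 h1
  have hpg : IsPGroup 2 (Subgroup.zpowers u) := by
    apply IsPGroup.of_card (n := 1)
    rw [Nat.card_zpowers, ho, pow_one]
  obtain ⟨Q, hQ⟩ := hpg.exists_le_sylow
  obtain ⟨g, hg⟩ := MulAction.exists_smul_eq (Hg x y) Q (hPp.toSylow hidx)
  have hmem : g * u * g⁻¹ ∈ (Pg ψ D2 x y).subgroupOf (Hg x y) := by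
    have h1' : u ∈ (Q : Subgroup (Hg x y)) := hQ (Subgroup.mem_zpowers _)
    have h2' : g * u * g⁻¹ ∈ ((g • Q : Sylow 2 (Hg x y)) : Subgroup (Hg x y)) := by
      rw [Sylow.smul_def, Sylow.pointwise_smul_def, Subgroup.mem_pointwise_smul_iff_inv_smul_mem]
      simpa [MulAut.smul_def, mul_assoc] using h1'
    rw [hg] at h2'
    exact (IsPGroup.mem_toSylow hPp hidx).mp h2'
  rw [Subgroup.mem_subgroupOf] at hmem
  have hv : ((g * u * g⁻¹ : Hg x y) : 𝒢) = (g : 𝒢) * u * (g : 𝒢)⁻¹ := by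
    simp only [Subgroup.coe_mul, Subgroup.coe_inv]
  rw [hv] at hmem
  have hsq : ((g : 𝒢) * u * (g : 𝒢)⁻¹) ^ 2 = 1 := by
    have : ((u : 𝒢)) ^ 2 = 1 := by
      rw [← Subgroup.coe_pow, h2, Subgroup.coe_one]
    rw [pow_two] at this ⊢
    calc (g : 𝒢) * u * (g : 𝒢)⁻¹ * ((g : 𝒢) * u * (g : 𝒢)⁻¹)
        = (g : 𝒢) * ((u : 𝒢) * u) * (g : 𝒢)⁻¹ := by group
      _ = 1 := by rw [this]; group
  have hne : (g : 𝒢) * u * (g : 𝒢)⁻¹ ≠ 1 := by
    intro h
    apply h1
    apply Subtype.ext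
    rw [Subgroup.coe_one]
    calc (u : 𝒢) = (g : 𝒢)⁻¹ * ((g : 𝒢) * u * (g : 𝒢)⁻¹) * g := by group
      _ = 1 := by rw [h]; group
  have hS := InS_of_mem_P2 hψ hx hy hmem hsq hne
  have hS' := InS_conj hψ hx hy (g : 𝒢)⁻¹ ((Hg x y).inv_mem g.2) _ hS
  have e : (g : 𝒢)⁻¹ * ((g : 𝒢) * u * (g : 𝒢)⁻¹) * ((g : 𝒢)⁻¹)⁻¹ = u := by group
  rw [e] at hS'
  exact hS'

end

end Cfsg.Agent.Lib.Helper60.J3
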