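import Cfsg.Agent.Lib.Helper60.J3.InvData

/-! Closure checks for the set of involutions (generated). -/

set_option autoImplicit false

namespace Cfsg.Agent.Lib.Helper60.J3

theorem chkCl_c_0 : allBelow (fun j => chkCl (Nat.add 0 j)) 2048 = true := by decide +kernel
theorem chkCl_c_1 : allBelow (fun j => chkCl (Nat.add 2048 j)) 2048 = true := by decide +kernel
theorem chkCl_c_2 : allBelow (fun j => chkCl (Nat.add 4096 j)) 2048 = true := by decide +kernel
theorem chkCl_c_3 : allBelow (fun j => chkCl (Nat.add 6144 j)) 2048 = true := by decide +kernel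

end Cfsg.Agent.Lib.Helper60.J3
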