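import Cfsg.Agent.Lib.Helper60.J3.LineChkA
import Cfsg.Agent.Lib.Helper60.J3.LineChkB
import Cfsg.Agent.Lib.Helper60.J3.LineChkC0
import Cfsg.Agent.Lib.Helper60.J3.LineChkC1
import Cfsg.Agent.Lib.Helper60.J3.LineChkC2
import Cfsg.Agent.Lib.Helper60.J3.LineChkC3

/-! All checks for the orbits on lines, assembled (generated). -/

set_option autoImplicit false

namespace Cfsg.Agent.Lib.Helper60.J3

theorem chkOT_all : ∀ j < 23255, chkOT j = true := by
  intro j hj
  rcases Nat.lt_or_ge j 4096 with h0 | h0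
  · exact allBelow_off chkOT 0 4096 chkOT_c_0 j (Nat.zero_le j) h0
  rcases Nat.lt_or_ge j 8192 with h1 | h1
  · exact allBelow_off chkOT 4096 4096 chkOT_c_1 j h0 h1
  rcases Nat.lt_or_ge j 12288 with h2 | h2
  · exact allBelow_off chkOT 8192 4096 chkOT_c_2 j h1 h2
  rcases Nat.lt_or_ge j 16384 with h3 | h3
  · exact allBelow_off chkOT 12288 4096 chkOT_c_3 j h2 h3
  rcases Nat.lt_or_ge j 20480 with h4 | h4
  · exact allBelow_off chkOT 16384 4096 chkOT_c_4 j h3 h4
  exact allBelow_off chkOT 20480 2775 chkOT_c_5 j h4 hj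

theorem chkOC_all : ∀ j < 23256, chkOC j = true := by
  intro j hj
  rcases Nat.lt_or_ge j 4096 with h0 | h0
  · exact allBelow_off chkOC 0 4096 chkOC_c_0 j (Nat.zero_le j) h0
  rcases Nat.lt_or_ge j 8192 with h1 | h1
  · exact allBelow_off chkOC 4096 4096 chkOC_c_1 j h0 h1
  rcases Nat.lt_or_ge j 12288 with h2 | h2
  · exact allBelow_off chkOC 8192 4096 chkOC_c_2 j h1 h2
  rcases Nat.lt_or_ge j 16384 with h3 | h3
  · exact allBelow_off chkOC 12288 4096 chkOC_c_3 j h2 h3
  rcases Nat.lt_or_ge j 20480 with h4 | h4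
  · exact allBelow_off chkOC 16384 4096 chkOC_c_4 j h3 h4
  exact allBelow_off chkOC 20480 2776 chkOC_c_5 j h4 hj

theorem chkOD_all : ∀ j < 23256, chkOD j = true := by
  intro j hj
  rcases Nat.lt_or_ge j 4096 with h0 | h0
  · exact allBelow_off chkOD 0 4096 chkOD_c_0 j (Nat.zero_le j) h0
  rcases Nat.lt_or_ge j 8192 with h1 | h1
  · exact allBelow_off chkOD 4096 4096 chkOD_c_1 j h0 h1
  rcases Nat.lt_or_ge j 12288 with h2 | h2
  · exact allBelow_off chkOD 8192 4096 chkOD_c_2 j h1 h2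
  rcases Nat.lt_or_ge j 16384 with h3 | h3
  · exact allBelow_off chkOD 12288 4096 chkOD_c_3 j h2 h3
  rcases Nat.lt_or_ge j 20480 with h4 | h4
  · exact allBelow_off chkOD 16384 4096 chkOD_c_4 j h3 h4
  exact allBelow_off chkOD 20480 2776 chkOD_c_5 j h4 hj

theorem chkIT_all : ∀ j < 43604, chkIT j = true := by
  intro j hj
  rcases Nat.lt_or_ge j 4096 with h0 | h0
  · exact allBelow_off chkIT 0 4096 chkIT_c_0 j (Nat.zero_le j) h0
  rcases Nat.lt_or_ge j 8192 with h1 | h1
  · exact allBelow_off chkIT 4096 4096 chkIT_c_1 j h0 h1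
  rcases Nat.lt_or_ge j 12288 with h2 | h2
  · exact allBelow_off chkIT 8192 4096 chkIT_c_2 j h1 h2
  rcases Nat.lt_or_ge j 16384 with h3 | h3
  · exact allBelow_off chkIT 12288 4096 chkIT_c_3 j h2 h3
  rcases Nat.lt_or_ge j 20480 with h4 | h4
  · exact allBelow_off chkIT 16384 4096 chkIT_c_4 j h3 h4
  rcases Nat.lt_or_ge j 24576 with h5 | h5
  · exact allBelow_off chkIT 20480 4096 chkIT_c_5 j h4 h5
  rcases Nat.lt_or_ge j 28672 with h6 | h6
  · exact allBelow_off chkIT 24576 4096 chkIT_c_6 j h5 h6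
  rcases Nat.lt_or_ge j 32768 with h7 | h7
  · exact allBelow_off chkIT 28672 4096 chkIT_c_7 j h6 h7
  rcases Nat.lt_or_ge j 36864 with h8 | h8
  · exact allBelow_off chkIT 32768 4096 chkIT_c_8 j h7 h8
  rcases Nat.lt_or_ge j 40960 with h9 | h9
  · exact allBelow_off chkIT 36864 4096 chkIT_c_9 j h8 h9
  exact allBelow_off chkIT 40960 2644 chkIT_c_10 j h9 hj

theorem chkIC_all : ∀ j < 262144, chkIC j = true := by
  intro j hj
  rcases Nat.lt_or_ge j 8192 with h0 | h0
  · exact allBelow_off chkIC 0 8192 chkIC_c_0 j (Nat.zero_le j) h0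
  rcases Nat.lt_or_ge j 16384 with h1 | h1
  · exact allBelow_off chkIC 8192 8192 chkIC_c_1 j h0 h1
  rcases Nat.lt_or_ge j 24576 with h2 | h2
  · exact allBelow_off chkIC 16384 8192 chkIC_c_2 j h1 h2
  rcases Nat.lt_or_ge j 32768 with h3 | h3
  · exact allBelow_off chkIC 24576 8192 chkIC_c_3 j h2 h3
  rcases Nat.lt_or_ge j 40960 with h4 | h4
  · exact allBelow_off chkIC 32768 8192 chkIC_c_4 j h3 h4
  rcases Nat.lt_or_ge j 49152 with h5 | h5
  · exact allBelow_off chkIC 40960 8192 chkIC_c_5 j h4 h5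
  rcases Nat.lt_or_ge j 57344 with h6 | h6
  · exact allBelow_off chkIC 49152 8192 chkIC_c_6 j h5 h6
  rcases Nat.lt_or_ge j 65536 with h7 | h7
  · exact allBelow_off chkIC 57344 8192 chkIC_c_7 j h6 h7
  rcases Nat.lt_or_ge j 73728 with h8 | h8
  · exact allBelow_off chkIC 65536 8192 chkIC_c_8 j h7 h8
  rcases Nat.lt_or_ge j 81920 with h9 | h9
  · exact allBelow_off chkIC 73728 8192 chkIC_c_9 j h8 h9
  rcases Nat.lt_or_ge j 90112 with h10 | h10
  · exact allBelow_off chkIC 81920 8192 chkIC_c_10 j h9 h10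
  rcases Nat.lt_or_ge j 98304 with h11 | h11
  · exact allBelow_off chkIC 90112 8192 chkIC_c_11 j h10 h11
  rcases Nat.lt_or_ge j 106496 with h12 | h12
  · exact allBelow_off chkIC 98304 8192 chkIC_c_12 j h11 h12
  rcases Nat.lt_or_ge j 114688 with h13 | h13
  · exact allBelow_off chkIC 106496 8192 chkIC_c_13 j h12 h13
  rcases Nat.lt_or_ge j 122880 with h14 | h14
  · exact allBelow_off chkIC 114688 8192 chkIC_c_14 j h13 h14
  rcases Nat.lt_or_ge j 131072 with h15 | h15
  · exact allBelow_off chkIC 122880 8192 chkIC_c_15 j h14 h15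
  rcases Nat.lt_or_ge j 139264 with h16 | h16
  · exact allBelow_off chkIC 131072 8192 chkIC_c_16 j h15 h16
  rcases Nat.lt_or_ge j 147456 with h17 | h17
  · exact allBelow_off chkIC 139264 8192 chkIC_c_17 j h16 h17
  rcases Nat.lt_or_ge j 155648 with h18 | h18
  · exact allBelow_off chkIC 147456 8192 chkIC_c_18 j h17 h18
  rcases Nat.lt_or_ge j 163840 with h19 | h19
  · exact allBelow_off chkIC 155648 8192 chkIC_c_19 j h18 h19
  rcases Nat.lt_or_ge j 172032 with h20 | h20
  · exact allBelow_off chkIC 163840 8192 chkIC_c_20 j h19 h20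
  rcases Nat.lt_or_ge j 180224 with h21 | h21
  · exact allBelow_off chkIC 172032 8192 chkIC_c_21 j h20 h21
  rcases Nat.lt_or_ge j 188416 with h22 | h22
  · exact allBelow_off chkIC 180224 8192 chkIC_c_22 j h21 h22
  rcases Nat.lt_or_ge j 196608 with h23 | h23
  · exact allBelow_off chkIC 188416 8192 chkIC_c_23 j h22 h23
  rcases Nat.lt_or_ge j 204800 with h24 | h24
  · exact allBelow_off chkIC 196608 8192 chkIC_c_24 j h23 h24
  rcases Nat.lt_or_ge j 212992 with h25 | h25
  · exact allBelow_off chkIC 204800 8192 chkIC_c_25 j h24 h25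
  rcases Nat.lt_or_ge j 221184 with h26 | h26
  · exact allBelow_off chkIC 212992 8192 chkIC_c_26 j h25 h26
  rcases Nat.lt_or_ge j 229376 with h27 | h27
  · exact allBelow_off chkIC 221184 8192 chkIC_c_27 j h26 h27
  rcases Nat.lt_or_ge j 237568 with h28 | h28
  · exact allBelow_off chkIC 229376 8192 chkIC_c_28 j h27 h28
  rcases Nat.lt_or_ge j 245760 with h29 | h29
  · exact allBelow_off chkIC 237568 8192 chkIC_c_29 j h28 h29
  rcases Nat.lt_or_ge j 253952 with h30 | h30
  · exact allBelow_off chkIC 245760 8192 chkIC_c_30 j h29 h30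
  exact allBelow_off chkIC 253952 8192 chkIC_c_31 j h30 hj


end Cfsg.Agent.Lib.Helper60.J3
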