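import Mathlib

/-!
Packed arithmetic for 9 x 9 matrices over the field with four elements: a matrix is one natural
number, entry `(i, j)` being the two bits `18 * i + 2 * j + 1` (coefficient of `ω`) and
`18 * i + 2 * j` (coefficient of `1`).
-/

set_option autoImplicit false

namespace Cfsg.Agent.Lib.Helper60.J3

/-- the field with four elements: `hi * ω + lo` with `ω ^ 2 = ω + 1` -/
@[ext] structure F4 : Type where
  hi : Bool
  lo : Bool
  deriving DecidableEq, Fintype

namespace F4

def add (a b : F4) : F4 := ⟨a.hi ^^ b.hi, a.lo ^^ b.lo⟩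
def mul (a b : F4) : F4 := ⟨(a.lo && b.hi) ^^ (a.hi && (b.hi ^^ b.lo)), (a.lo && b.lo) ^^ (a.hi && b.hi)⟩
def zero : F4 := ⟨false, false⟩
def one : F4 := ⟨false, true⟩

instance : Add F4 := ⟨add⟩
instance : Mul F4 := ⟨mul⟩
instance : Zero F4 := ⟨zero⟩
instance : One F4 := ⟨one⟩
instance : Neg F4 := ⟨fun a => a⟩
instance : Inv F4 := ⟨fun a => mul a a⟩

instance : CommRing F4 where
  add_assoc := by decide
  zero_add := by decide
  add_zero := by decide
  add_comm := by decide
  neg_add_cancel := by decide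
  left_distrib := by decide
  right_distrib := by decide
  zero_mul := by decide
  mul_zero := by decide
  mul_assoc := by decide
  one_mul := by decide
  mul_one := by decide
  mul_comm := by decide
  nsmul := nsmulRec
  zsmul := zsmulRec

instance : Field F4 where
  exists_pair_ne := ⟨0, 1, by decide⟩
  mul_inv_cancel := by decide
  inv_zero := by decide
  nnqsmul := _
  nnqsmul_def := fun _ _ => rfl
  qsmul := _
  qsmul_def := fun _ _ => rfl

/-- the generator `ω` -/
def ω : F4 := ⟨true, false⟩

theorem add_hi (a b : F4) : (a + b).hi = (a.hi ^^ b.hi) := rfl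
theorem add_lo (a b : F4) : (a + b).lo = (a.lo ^^ b.lo) := rfl
theorem mul_hi (a b : F4) : (a * b).hi = ((a.lo && b.hi) ^^ (a.hi && (b.hi ^^ b.lo))) := rfl
theorem mul_lo (a b : F4) : (a * b).lo = ((a.lo && b.lo) ^^ (a.hi && b.hi)) := rfl
theorem zero_hi : (0 : F4).hi = false := rfl
theorem zero_lo : (0 : F4).lo = false := rfl

theorem card_eq : Fintype.card F4 = 4 := by decide

theorem omega_sq : ω ^ 2 + ω + 1 = (0 : F4) := by decide

theorem two_eq_zero : (2 : F4) = 0 := by
  rw [← one_add_one_eq_two]; decide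

end F4

abbrev Mat := Matrix (Fin 9) (Fin 9) F4

/-- the matrix coded by a natural number -/
def toMat (x : ℕ) : Mat :=
  Matrix.of fun i j => ⟨x.testBit (18 * i.val + 2 * j.val + 1), x.testBit (18 * i.val + 2 * j.val)⟩

def ML : ℕ := 0x1000040001000040001000040001000040001
def M18 : ℕ := 262143
def MLO : ℕ := 0x15555555555555555555555555555555555555555
def MHI : ℕ := 0x2aaaaaaaaaaaaaaaaaaaaaaaaaaaaaaaaaaaaaaaa

/-- entrywise multiplication by `ω` -/
def omul (B : ℕ) : ℕ :=
  Nat.xor (Nat.xor (Nat.land B MHI) (Nat.shiftLeft (Nat.land B MLO) 1))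
    (Nat.shiftRight (Nat.land B MHI) 1)

/-- the contribution of column `j` of `A` and row `j` of `B` -/
def term (A B wB j : ℕ) : ℕ :=
  Nat.xor
    (Nat.mul (Nat.land (Nat.shiftRight A (Nat.mul 2 j)) ML)
      (Nat.land (Nat.shiftRight B (Nat.mul 18 j)) M18))
    (Nat.mul (Nat.land (Nat.shiftRight A (Nat.add (Nat.mul 2 j) 1)) ML)
      (Nat.land (Nat.shiftRight wB (Nat.mul 18 j)) M18))

/-- the packed product -/
def mulP (A B : ℕ) : ℕ :=
  Nat.xor (Nat.xor (Nat.xor (Nat.xor (Nat.xor (Nat.xor (Nat.xor (Nat.xor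
    (term A B (omul B) 0) (term A B (omul B) 1)) (term A B (omul B) 2)) (term A B (omul B) 3))
    (term A B (omul B) 4)) (term A B (omul B) 5)) (term A B (omul B) 6)) (term A B (omul B) 7))
    (term A B (omul B) 8)

theorem ML_sparse : ∀ n < 162, ML.testBit n = true → n % 18 = 0 := by decide +kernel
theorem ML_lt : ML < 2 ^ 162 := by decide +kernel
theorem ML_bit : ∀ i < 9, ML.testBit (18 * i) = true := by decide +kernel
theorem MHI_odd : ∀ e < 81, MHI.testBit (2 * e + 1) = true := by decide +kernel
theorem MHI_even : ∀ e < 82, MHI.testBit (2 * e) = false := by decide +kernel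
theorem MLO_even : ∀ e < 81, MLO.testBit (2 * e) = true := by decide +kernel
theorem MLO_odd : ∀ e < 81, MLO.testBit (2 * e + 1) = false := by decide +kernel

theorem land_ML_sparse (a n : ℕ) (h : (a &&& ML).testBit n = true) : 18 ∣ n := by
  rw [Nat.testBit_and, Bool.and_eq_true] at h
  by_cases hn : n < 162
  · exact Nat.dvd_of_mod_eq_zero (ML_sparse n hn h.2)
  · have : ML.testBit n = false := by
      apply Nat.testBit_lt_two_pow
      exact lt_of_lt_of_le ML_lt (Nat.pow_le_pow_right (by norm_num) (by omega))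
    rw [this] at h
    exact absurd h.2 (by simp)

theorem sparse_mul (i : ℕ) : ∀ (c r t : ℕ), (∀ n, c.testBit n = true → 18 ∣ n) → r < 2 ^ 18 →
    t < 18 → (c * r).testBit (18 * i + t) = (c.testBit (18 * i) && r.testBit t) := by
  induction i with
  | zero =>
    intro c r t hc hr ht
    have h0 : c % 2 ^ 18 < 2 ^ 1 := by
      apply Nat.lt_pow_two_of_testBit
      intro i hi
      rw [Nat.testBit_mod_two_pow]
      by_cases h18 : i < 18
      · by_contra hne
        have : c.testBit i = true := by simpa [h18] using hne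
        have := hc i this
        omega
      · simp [h18]
    have hcr : c * r = 2 ^ 18 * (c / 2 ^ 18 * r) + c % 2 ^ 18 * r := by
      conv_lhs => rw [← Nat.div_add_mod c (2 ^ 18)]
      ring
    have hlt : c % 2 ^ 18 * r < 2 ^ 18 := by
      have : c % 2 ^ 18 ≤ 1 := by omega
      nlinarith
    rw [hcr, Nat.mul_zero, Nat.zero_add, Nat.testBit_two_pow_mul_add _ hlt, if_pos ht]
    have hc0 : c.testBit 0 = decide (c % 2 ^ 18 = 1) := by
      rw [Nat.testBit_zero]
      have : c % 2 ^ 18 % 2 = c % 2 := Nat.mod_mod_of_dvd c (by norm_num)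
      have h2 : c % 2 ^ 18 < 2 := h0
      congr 1
      apply propext
      constructor <;> intro h <;> omega
    rw [hc0]
    rcases Nat.lt_succ_iff_lt_or_eq.mp (show c % 2 ^ 18 < 1 + 1 from h0) with h1 | h1
    · have : c % 2 ^ 18 = 0 := by omega
      rw [this]; simp
    · rw [h1]; simp
  | succ i ih =>
    intro c r t hc hr ht
    have h0 : c % 2 ^ 18 < 2 ^ 1 := by
      apply Nat.lt_pow_two_of_testBit
      intro i hi
      rw [Nat.testBit_mod_two_pow]
      by_cases h18 : i < 18
      · by_contra hne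
        have : c.testBit i = true := by simpa [h18] using hne
        have := hc i this
        omega
      · simp [h18]
    have hcr : c * r = 2 ^ 18 * (c / 2 ^ 18 * r) + c % 2 ^ 18 * r := by
      conv_lhs => rw [← Nat.div_add_mod c (2 ^ 18)]
      ring
    have hlt : c % 2 ^ 18 * r < 2 ^ 18 := by
      have : c % 2 ^ 18 ≤ 1 := by omega
      nlinarith
    have hge : ¬ (18 * (i + 1) + t < 18) := by omega
    rw [hcr, Nat.testBit_two_pow_mul_add _ hlt, if_neg hge]
    have e1 : 18 * (i + 1) + t - 18 = 18 * i + t := by omega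
    rw [e1, ih (c / 2 ^ 18) r t ?_ hr ht, Nat.testBit_div_two_pow]
    · congr 2
    · intro n hn
      rw [Nat.testBit_div_two_pow] at hn
      have := hc _ hn
      omega

theorem M18_eq : M18 = 2 ^ 18 - 1 := by decide

theorem prod_bit (A B i j t : ℕ) (hi : i < 9) (ht : t < 18) :
    (((A >>> (2 * j)) &&& ML) * ((B >>> (18 * j)) &&& M18)).testBit (18 * i + t)
      = (A.testBit (18 * i + 2 * j) && B.testBit (18 * j + t)) := by
  rw [sparse_mul i _ _ t (land_ML_sparse _) ?_ ht]
  · rw [Nat.testBit_and, Nat.testBit_and, Nat.testBit_shiftRight, Nat.testBit_shiftRight,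
      ML_bit i hi, M18_eq, Nat.testBit_two_pow_sub_one]
    simp [ht, Nat.add_comm]
  · exact Nat.and_lt_two_pow _ (by decide)

theorem omul_hi (B e : ℕ) (he : e < 81) :
    (omul B).testBit (2 * e + 1) = (B.testBit (2 * e + 1) ^^ B.testBit (2 * e)) := by
  change (((B &&& MHI) ^^^ ((B &&& MLO) <<< 1)) ^^^ ((B &&& MHI) >>> 1)).testBit (2 * e + 1) = _
  rw [Nat.testBit_xor, Nat.testBit_xor, Nat.testBit_and, Nat.testBit_shiftLeft,
    Nat.testBit_shiftRight, Nat.testBit_and, Nat.testBit_and]
  have h1 := MHI_odd e he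
  have h2 := MLO_even e he
  have h3 := MHI_even (e + 1) (by omega)
  have e1 : 2 * e + 1 - 1 = 2 * e := by omega
  have e2 : 1 + (2 * e + 1) = 2 * (e + 1) := by omega
  rw [e1, e2, h1, h2, h3]
  simp

theorem omul_lo (B e : ℕ) (he : e < 81) :
    (omul B).testBit (2 * e) = B.testBit (2 * e + 1) := by
  change (((B &&& MHI) ^^^ ((B &&& MLO) <<< 1)) ^^^ ((B &&& MHI) >>> 1)).testBit (2 * e) = _
  rw [Nat.testBit_xor, Nat.testBit_xor, Nat.testBit_and, Nat.testBit_shiftLeft,
    Nat.testBit_shiftRight, Nat.testBit_and, Nat.testBit_and]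
  have h1 := MHI_even e (by omega)
  have h3 := MHI_odd e he
  have e2 : 1 + 2 * e = 2 * e + 1 := by omega
  rw [e2, h1, h3]
  rcases Nat.eq_zero_or_pos e with h0 | h0
  · subst h0; simp
  · have h2 := MLO_odd (e - 1) (by omega)
    have e1 : 2 * e - 1 = 2 * (e - 1) + 1 := by omega
    rw [e1, h2]
    simp

theorem term_bit (A B i j t : ℕ) (hi : i < 9) (ht : t < 18) :
    (term A B (omul B) j).testBit (18 * i + t)
      = ((A.testBit (18 * i + 2 * j) && B.testBit (18 * j + t)) ^^
        (A.testBit (18 * i + 2 * j + 1) && (omul B).testBit (18 * j + t))) := by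
  change ((((A >>> (2 * j)) &&& ML) * ((B >>> (18 * j)) &&& M18)) ^^^
    (((A >>> (2 * j + 1)) &&& ML) * ((omul B >>> (18 * j)) &&& M18))).testBit (18 * i + t) = _
  rw [Nat.testBit_xor, prod_bit A B i j t hi ht]
  congr 1
  have := prod_bit (A >>> 1) (omul B) i j t hi ht
  rw [Nat.testBit_shiftRight] at this
  have e : A >>> (2 * j + 1) = A >>> 1 >>> (2 * j) := by
    rw [← Nat.shiftRight_add, Nat.add_comm]
  rw [e, this]
  congr 2
  omega

theorem mulP_bit (A B i t : ℕ) (hi : i < 9) (ht : t < 18) :
    (mulP A B).testBit (18 * i + t) =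
      ((((((((((term A B (omul B) 0).testBit (18 * i + t) ^^ (term A B (omul B) 1).testBit (18 * i + t))
      ^^ (term A B (omul B) 2).testBit (18 * i + t)) ^^ (term A B (omul B) 3).testBit (18 * i + t))
      ^^ (term A B (omul B) 4).testBit (18 * i + t)) ^^ (term A B (omul B) 5).testBit (18 * i + t))
      ^^ (term A B (omul B) 6).testBit (18 * i + t)) ^^ (term A B (omul B) 7).testBit (18 * i + t))
      ^^ (term A B (omul B) 8).testBit (18 * i + t))) := by
  change ((((((((term A B (omul B) 0 ^^^ term A B (omul B) 1) ^^^ term A B (omul B) 2) ^^^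
    term A B (omul B) 3) ^^^ term A B (omul B) 4) ^^^ term A B (omul B) 5) ^^^
    term A B (omul B) 6) ^^^ term A B (omul B) 7) ^^^ term A B (omul B) 8).testBit (18 * i + t) = _
  simp only [Nat.testBit_xor]

theorem toMat_mulP (x y : ℕ) : toMat (mulP x y) = toMat x * toMat y := by
  ext i k
  · -- hi
    rw [Matrix.mul_apply]
    have hs : ∑ j : Fin 9, toMat x i j * toMat y j k =
        ∑ j ∈ Finset.range 9, (⟨x.testBit (18 * i.val + 2 * j + 1), x.testBit (18 * i.val + 2 * j)⟩ : F4) *
          ⟨y.testBit (18 * j + 2 * k.val + 1), y.testBit (18 * j + 2 * k.val)⟩ :=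
      Fin.sum_univ_eq_sum_range (fun j => (⟨x.testBit (18 * i.val + 2 * j + 1), x.testBit (18 * i.val + 2 * j)⟩ : F4) *
          ⟨y.testBit (18 * j + 2 * k.val + 1), y.testBit (18 * j + 2 * k.val)⟩) 9
    rw [hs]
    simp only [Finset.sum_range_succ, Finset.sum_range_zero, zero_add, F4.add_hi, F4.mul_hi]
    have hk : 2 * k.val + 1 < 18 := by omega
    change (mulP x y).testBit (18 * i.val + 2 * k.val + 1) = _
    rw [Nat.add_assoc, mulP_bit x y i.val _ i.isLt hk]
    simp only [term_bit x y i.val _ _ i.isLt hk]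
    have ho : ∀ j < 9, (omul y).testBit (18 * j + (2 * k.val + 1)) =
        (y.testBit (18 * j + 2 * k.val + 1) ^^ y.testBit (18 * j + 2 * k.val)) := by
      intro j hj
      have := omul_hi y (9 * j + k.val) (by omega)
      have e1 : 2 * (9 * j + k.val) + 1 = 18 * j + (2 * k.val + 1) := by omega
      have e2 : 2 * (9 * j + k.val) = 18 * j + 2 * k.val := by omega
      rw [e1, e2] at this
      rw [this, Nat.add_assoc]
    rw [ho 0 (by norm_num), ho 1 (by norm_num), ho 2 (by norm_num), ho 3 (by norm_num),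
      ho 4 (by norm_num), ho 5 (by norm_num), ho 6 (by norm_num), ho 7 (by norm_num),
      ho 8 (by norm_num)]
    simp only [Nat.add_assoc]
  · -- lo
    rw [Matrix.mul_apply]
    have hs : ∑ j : Fin 9, toMat x i j * toMat y j k =
        ∑ j ∈ Finset.range 9, (⟨x.testBit (18 * i.val + 2 * j + 1), x.testBit (18 * i.val + 2 * j)⟩ : F4) *
          ⟨y.testBit (18 * j + 2 * k.val + 1), y.testBit (18 * j + 2 * k.val)⟩ :=
      Fin.sum_univ_eq_sum_range (fun j => (⟨x.testBit (18 * i.val + 2 * j + 1), x.testBit (18 * i.val + 2 * j)⟩ : F4) *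
          ⟨y.testBit (18 * j + 2 * k.val + 1), y.testBit (18 * j + 2 * k.val)⟩) 9
    rw [hs]
    simp only [Finset.sum_range_succ, Finset.sum_range_zero, zero_add, F4.add_lo, F4.mul_lo]
    have hk : 2 * k.val < 18 := by omega
    change (mulP x y).testBit (18 * i.val + 2 * k.val) = _
    rw [mulP_bit x y i.val _ i.isLt hk]
    simp only [term_bit x y i.val _ _ i.isLt hk]
    have ho : ∀ j < 9, (omul y).testBit (18 * j + 2 * k.val) = y.testBit (18 * j + 2 * k.val + 1) := by
      intro j hj
      have := omul_lo y (9 * j + k.val) (by omega)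
      have e1 : 2 * (9 * j + k.val) + 1 = 18 * j + 2 * k.val + 1 := by omega
      have e2 : 2 * (9 * j + k.val) = 18 * j + 2 * k.val := by omega
      rw [e1, e2] at this
      exact this
    rw [ho 0 (by norm_num), ho 1 (by norm_num), ho 2 (by norm_num), ho 3 (by norm_num),
      ho 4 (by norm_num), ho 5 (by norm_num), ho 6 (by norm_num), ho 7 (by norm_num),
      ho 8 (by norm_num)]

theorem toMat_mul_eq {x y z : ℕ} (h : mulP x y = z) : toMat x * toMat y = toMat z := by
  rw [← toMat_mulP, h]

/-- the identity matrix, packed -/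
def oneP : ℕ := 0x10000100001000010000100001000010000100001
/-- the scalar matrices `ω` and `ω ^ 2`, packed -/
def Z1p : ℕ := 0x20000200002000020000200002000020000200002
def Z2p : ℕ := 0x30000300003000030000300003000030000300003
def M162 : ℕ := 0x3ffffffffffffffffffffffffffffffffffffffff

theorem toMat_oneP : toMat oneP = 1 := by decide +kernel
theorem toMat_Z1p : toMat Z1p = Matrix.diagonal fun _ => F4.ω := by decide +kernel
theorem toMat_Z2p : toMat Z2p = Matrix.diagonal fun _ => F4.ω ^ 2 := by decide +kernel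

theorem toMat_inj {x y : ℕ} (hx : x < 2 ^ 162) (hy : y < 2 ^ 162) (h : toMat x = toMat y) :
    x = y := by
  apply Nat.eq_of_testBit_eq
  intro n
  by_cases hn : n < 162
  · have hi : n / 18 < 9 := by omega
    have hj : n % 18 / 2 < 9 := by omega
    have h1 := congrFun (congrFun h ⟨n / 18, hi⟩) ⟨n % 18 / 2, hj⟩
    rcases Nat.mod_two_eq_zero_or_one n with h2 | h2
    · have e : n = 18 * (n / 18) + 2 * (n % 18 / 2) := by omega
      have := congrArg F4.lo h1
      change x.testBit (18 * (n / 18) + 2 * (n % 18 / 2)) = y.testBit (18 * (n / 18) + 2 * (n % 18 / 2)) at this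
      rw [← e] at this
      exact this
    · have e : n = 18 * (n / 18) + 2 * (n % 18 / 2) + 1 := by omega
      have := congrArg F4.hi h1
      change x.testBit (18 * (n / 18) + 2 * (n % 18 / 2) + 1) = y.testBit (18 * (n / 18) + 2 * (n % 18 / 2) + 1) at this
      rw [← e] at this
      exact this
  · have hp : (2 : ℕ) ^ 162 ≤ 2 ^ n := Nat.pow_le_pow_right (by norm_num) (by omega)
    rw [Nat.testBit_lt_two_pow (lt_of_lt_of_le hx hp), Nat.testBit_lt_two_pow (lt_of_lt_of_le hy hp)]

/-- reduction to the 162 significant bits -/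
def canon (x : ℕ) : ℕ := Nat.land x M162

theorem canon_lt (x : ℕ) : canon x < 2 ^ 162 := by
  change x &&& M162 < 2 ^ 162
  exact Nat.and_lt_two_pow _ (by decide)

theorem toMat_canon (x : ℕ) : toMat (canon x) = toMat x := by
  have hM : M162 = 2 ^ 162 - 1 := by decide
  ext i j
  · change (x &&& M162).testBit (18 * i.val + 2 * j.val + 1) = x.testBit (18 * i.val + 2 * j.val + 1)
    rw [Nat.testBit_and, hM, Nat.testBit_two_pow_sub_one]
    have : 18 * i.val + 2 * j.val + 1 < 162 := by omega
    simp [this]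
  · change (x &&& M162).testBit (18 * i.val + 2 * j.val) = x.testBit (18 * i.val + 2 * j.val)
    rw [Nat.testBit_and, hM, Nat.testBit_two_pow_sub_one]
    have : 18 * i.val + 2 * j.val < 162 := by omega
    simp [this]

theorem toMat_ne {x y : ℕ} (h : Nat.beq (canon x) (canon y) = false) : toMat x ≠ toMat y := by
  intro e
  have := toMat_inj (canon_lt x) (canon_lt y) (by rw [toMat_canon, toMat_canon, e])
  rw [this] at h
  simp at h

/-- powers -/
def powP (g : ℕ) : ℕ → ℕ
  | 0 => oneP
  | n + 1 => mulP (powP g n) g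

theorem toMat_powP (g n : ℕ) : toMat (powP g n) = toMat g ^ n := by
  induction n with
  | zero => simp [powP, toMat_oneP]
  | succ n ih => rw [powP, toMat_mulP, ih, pow_succ]

/-- check `f 0, ..., f (n-1)` -/
def allBelow (f : ℕ → Bool) : ℕ → Bool
  | 0 => true
  | n + 1 => f n && allBelow f n

theorem allBelow_spec (f : ℕ → Bool) (n : ℕ) (h : allBelow f n = true) :
    ∀ j < n, f j = true := by
  induction n with
  | zero => intro j hj; omega
  | succ n ih =>
    simp only [allBelow, Bool.and_eq_true] at h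
    intro j hj
    rcases Nat.lt_succ_iff_lt_or_eq.mp hj with h1 | h1
    · exact ih h.2 j h1
    · rw [h1]; exact h.1

theorem allBelow_off (f : ℕ → Bool) (lo n : ℕ)
    (h : allBelow (fun j => f (Nat.add lo j)) n = true) :
    ∀ j, lo ≤ j → j < lo + n → f j = true := by
  intro j h1 h2
  have := allBelow_spec _ n h (j - lo) (by omega)
  have e : Nat.add lo (j - lo) = j := by change lo + (j - lo) = j; omega
  simpa only [e] using this

end Cfsg.Agent.Lib.Helper60.J3
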