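import Cfsg.Agent.Lib.Helper60.J3.Inv
import Cfsg.Agent.Lib.Helper60.J3.Frob
import Cfsg.Agent.Lib.Helper60.OutTwo

/-!
The outer automorphism group of the central quotient of the matrix group (the Janko group
`J₃`) has order two.
-/

set_option autoImplicit false

namespace Cfsg.Agent.Lib.Helper60.J3

theorem Z12_ne : neqP Z1p Z2p = true := by decide +kernel

theorem notSc_spec {m : ℕ} (h : notSc m = true) : ¬ IsSc (toMat m) := by
  simp only [notSc, Bool.and_eq_true] at h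
  obtain ⟨⟨h0, h1⟩, h2⟩ := h
  rintro (h | h | h)
  · rw [← toMat_oneP] at h; exact toMat_ne' h0 h
  · exact toMat_ne' h1 h
  · exact toMat_ne' h2 h

theorem F1_spec (o : ℕ) (ho : o < 1539)
    (h8 : IsSc ((toMat Xp ^ 8 * toMat (getR o)) ^ 3))
    (h2 : IsSc ((toMat Xp ^ 2 * toMat (getR o)) ^ 4)) : o = 401 ∨ o = 980 := by
  have h := chkF1_all o ho
  unfold chkF1 at h
  split at h
  · simp only [Bool.or_eq_true] at h
    rcases h with h | h
    · left; exact Nat.eq_of_beq_eq_true h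
    · right; exact Nat.eq_of_beq_eq_true h
  · exfalso
    apply notSc_spec h
    rw [toMat_powP, toMat_mulP, XPt_spec 8 (by norm_num)]
    exact h8
  · exfalso
    apply notSc_spec h
    rw [toMat_powP, toMat_mulP, XPt_spec 2 (by norm_num)]
    exact h2

theorem F3_spec (o : ℕ) (ho : o < 1539)
    (h8 : IsSc ((toMat Xp ^ 24 * toMat (getR o)) ^ 3))
    (h2 : IsSc ((toMat Xp ^ 6 * toMat (getR o)) ^ 4)) : False := by
  have h := chkF3_all o ho
  have e24 : toMat Xp ^ 24 = toMat Xp ^ 7 := Xp_pow_mod 24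
  rw [e24] at h8
  unfold chkF3 at h
  split at h
  · apply notSc_spec h
    rw [toMat_powP, toMat_mulP, XPt_spec 7 (by norm_num)]
    exact h8
  · apply notSc_spec h
    rw [toMat_powP, toMat_mulP, XPt_spec 6 (by norm_num)]
    exact h2

theorem map_wordY {M N F : Type*} [Monoid M] [Monoid N] [FunLike F M N] [MonoidHomClass F M N]
    (f : F) (a b : M) : f (wordY a b) = wordY (f a) (f b) := by
  simp only [wordY, map_mul, map_pow]

theorem wordY_mat : wordY (toMat Xp) (toMat T1p) = toMat Yp := by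
  rw [← YW_eq]
  simp only [YW, wordY, toMat_mulP, XPt_spec 2 (by norm_num), XPt_spec 14 (by norm_num),
    XPt_spec 16 (by norm_num), XPt_spec 11 (by norm_num), XPt_spec 12 (by norm_num)]

section
variable {𝒢 : Type*} [Group 𝒢] {ψ : 𝒢 →* Mat} (hψ : Function.Injective ψ) {x y : 𝒢}
  (hx : ψ x = toMat Xp) (hy : ψ y = toMat Yp)

/-- the first generator as an element of the group -/
def xH (x y : 𝒢) : Hg x y := ⟨x, x_mem x y⟩
/-- the second generator as an element of the group -/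
def yH (x y : 𝒢) : Hg x y := ⟨y, y_mem x y⟩

theorem xH_coe (x y : 𝒢) : ((xH x y : Hg x y) : 𝒢) = x := rfl
theorem yH_coe (x y : 𝒢) : ((yH x y : Hg x y) : 𝒢) = y := rfl

theorem Hg_closure (x y : 𝒢) : Subgroup.closure ({xH x y, yH x y} : Set (Hg x y)) = ⊤ := by
  have h := Subgroup.closure_closure_coe_preimage (k := ({x, y} : Set 𝒢))
  have e : ((↑) : Hg x y → 𝒢) ⁻¹' ({x, y} : Set 𝒢) = {xH x y, yH x y} := by
    ext ⟨g, hg⟩
    simp [Subtype.ext_iff, xH, yH]
  rw [← e]; exact h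

variable (ψ) in
theorem Qg_closure (x y : 𝒢) :
    Subgroup.closure ({QuotientGroup.mk' (Zg ψ x y) (xH x y),
      QuotientGroup.mk' (Zg ψ x y) (yH x y)} : Set (Hg x y ⧸ Zg ψ x y)) = ⊤ := by
  have h : (QuotientGroup.mk' (Zg ψ x y)) '' {xH x y, yH x y} =
      {QuotientGroup.mk' (Zg ψ x y) (xH x y), QuotientGroup.mk' (Zg ψ x y) (yH x y)} := by
    rw [Set.image_pair]
  rw [← h, ← MonoidHom.map_closure, Hg_closure]
  exact Subgroup.map_top_of_surjective _ (QuotientGroup.mk'_surjective _)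

theorem mk_eq_one_iff (h : Hg x y) :
    QuotientGroup.mk' (Zg ψ x y) h = 1 ↔ IsSc (ψ (h : 𝒢)) := by
  rw [QuotientGroup.mk'_apply, QuotientGroup.eq_one_iff, mem_Zg]

include hψ hx in
theorem xH_pow : xH x y ^ 17 = 1 := by
  apply Subtype.ext
  rw [Subgroup.coe_pow, Subgroup.coe_one]
  exact x_pow hψ hx

include hψ hy in
theorem yH_pow : yH x y ^ 17 = 1 := by
  apply Subtype.ext
  rw [Subgroup.coe_pow, Subgroup.coe_one]
  exact y_pow hψ hy

include hψ hx in
theorem order_mk_x : orderOf (QuotientGroup.mk' (Zg ψ x y) (xH x y)) = 17 := by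
  have : Fact (Nat.Prime 17) := ⟨by norm_num⟩
  apply orderOf_eq_prime
  · rw [← map_pow, xH_pow hψ hx, map_one]
  · intro h
    rw [mk_eq_one_iff, xH_coe, hx] at h
    rcases h with h | h | h
    · rw [← toMat_oneP] at h; exact toMat_ne' Xp_ne0 h
    · exact toMat_ne' Xp_ne1 h
    · exact toMat_ne' Xp_ne2 h

include hψ hx hy in
theorem wordY_eq {t : Hg x y} (ht : ψ (t : 𝒢) = toMat T1p) : yH x y = wordY (xH x y) t := by
  apply Subtype.ext
  apply hψ
  have e : ((wordY (xH x y) t : Hg x y) : 𝒢) = wordY x (t : 𝒢) := by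
    simp only [wordY, Subgroup.coe_mul, Subgroup.coe_pow, xH_coe]
  rw [e, map_wordY, hx, ht, wordY_mat, yH_coe, hy]

include hψ hx hy in
/-- automorphisms of the quotient are determined by their values on the first generator and
the involution -/
theorem Q_gen {t : Hg x y} (ht : ψ (t : 𝒢) = toMat T1p) (f g : MulAut (Hg x y ⧸ Zg ψ x y))
    (hfx : f (QuotientGroup.mk' _ (xH x y)) = g (QuotientGroup.mk' _ (xH x y)))
    (hft : f (QuotientGroup.mk' _ t) = g (QuotientGroup.mk' _ t)) : f = g := by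
  have hfy : f (QuotientGroup.mk' _ (yH x y)) = g (QuotientGroup.mk' _ (yH x y)) := by
    rw [wordY_eq hψ hx hy ht, map_wordY, map_wordY, map_wordY, hfx, hft]
  apply MulEquiv.toMonoidHom_injective
  apply MonoidHom.eq_of_eqOn_dense (Qg_closure ψ x y)
  intro q hq
  rcases hq with rfl | hq
  · exact hfx
  · rw [Set.mem_singleton_iff] at hq
    rw [hq]
    exact hfy

include hψ in
/-- an involution of the quotient is the image of an involution -/
theorem inv_lift (q : Hg x y ⧸ Zg ψ x y) (h2 : q ^ 2 = 1) (h1 : q ≠ 1) :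
    ∃ u : Hg x y, QuotientGroup.mk' (Zg ψ x y) u = q ∧ u ^ 2 = 1 ∧ u ≠ 1 := by
  obtain ⟨h, rfl⟩ := QuotientGroup.mk'_surjective (Zg ψ x y) q
  have hz : IsSc (ψ ((h ^ 2 : Hg x y) : 𝒢)) := (mk_eq_one_iff _).mp (by rw [map_pow]; exact h2)
  have e3 : QuotientGroup.mk' (Zg ψ x y) (h ^ 3) = QuotientGroup.mk' (Zg ψ x y) h := by
    rw [map_pow, pow_succ, h2, one_mul]
  refine ⟨h ^ 3, e3, ?_, ?_⟩
  · have e : (h ^ 3) ^ 2 = (h ^ 2) ^ 3 := by rw [← pow_mul, ← pow_mul]
    rw [e]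
    apply Subtype.ext
    apply hψ
    rw [Subgroup.coe_pow, map_pow, hz.pow_three, Subgroup.coe_one, map_one]
  · intro h3
    apply h1
    rw [← e3, h3, map_one]

include hψ hx hy in
/-- the image of the involution under an automorphism, up to conjugation by a power of the
first generator, is the class of a listed matrix -/
theorem beta_reduce {t : Hg x y} (ht : ψ (t : 𝒢) = toMat T1p)
    (β : MulAut (Hg x y ⧸ Zg ψ x y)) :
    ∃ c : Hg x y ⧸ Zg ψ x y, c * QuotientGroup.mk' _ (xH x y) = QuotientGroup.mk' _ (xH x y) * c ∧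
      ∃ o < 1539, ∃ r : Hg x y, ψ (r : 𝒢) = toMat (getR o) ∧
        (MulAut.conj c * β) (QuotientGroup.mk' _ t) = QuotientGroup.mk' _ r := by
  have ht2 : t ^ 2 = 1 := by
    apply Subtype.ext
    apply hψ
    rw [Subgroup.coe_pow, map_pow, ht, pow_two, toMat_mul_eq T1_sq, toMat_oneP, Subgroup.coe_one,
      map_one]
  have hq2 : (β (QuotientGroup.mk' _ t)) ^ 2 = 1 := by
    rw [← map_pow, ← map_pow, ht2, map_one, map_one]
  have hq1 : β (QuotientGroup.mk' _ t) ≠ 1 := by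
    intro h
    have h' : QuotientGroup.mk' (Zg ψ x y) t = 1 := by
      apply β.injective
      rw [h, map_one]
    rw [mk_eq_one_iff, ht] at h'
    exact notSc_spec T1_notSc h'
  obtain ⟨u, hu, hu2, hu1⟩ := inv_lift hψ _ hq2 hq1
  obtain ⟨o, ho, i, hi⟩ := inv_cover hψ hx hy u hu2 hu1
  refine ⟨(QuotientGroup.mk' _ (xH x y) ^ i)⁻¹,
    ((Commute.refl (QuotientGroup.mk' (Zg ψ x y) (xH x y))).pow_left i).inv_left.eq, o, ho,
    (xH x y ^ i)⁻¹ * u * xH x y ^ i, ?_, ?_⟩
  · have e : (((xH x y ^ i)⁻¹ * u * xH x y ^ i : Hg x y) : 𝒢) = (x ^ i)⁻¹ * u * x ^ i := by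
      simp only [Subgroup.coe_mul, Subgroup.coe_inv, Subgroup.coe_pow, xH_coe]
    rw [e, map_mul, map_mul, map_pow, hx, mul_assoc, hi, ← mul_assoc]
    have e2 : ψ (x ^ i)⁻¹ * toMat Xp ^ i = 1 := by
      rw [← hx, ← map_pow, ← map_mul, inv_mul_cancel, map_one]
    rw [e2, one_mul]
  · rw [MulAut.mul_apply, MulAut.conj_apply, ← hu, inv_inv]
    simp only [map_mul, map_inv, map_pow]

include hx in
/-- a relation between the first generator and the involution is preserved by automorphisms -/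
theorem rel_transfer (t : Hg x y) (β : MulAut (Hg x y ⧸ Zg ψ x y)) (c : ℕ) (r : Hg x y)
    (hβx : β (QuotientGroup.mk' _ (xH x y)) = QuotientGroup.mk' _ (xH x y) ^ c)
    (hβt : β (QuotientGroup.mk' _ t) = QuotientGroup.mk' _ r) (a e : ℕ)
    (hrel : (QuotientGroup.mk' (Zg ψ x y) (xH x y) ^ a * QuotientGroup.mk' _ t) ^ e = 1) :
    IsSc ((toMat Xp ^ (c * a) * ψ (r : 𝒢)) ^ e) := by
  have h := congrArg β hrel
  rw [map_pow, map_mul, map_pow, hβx, hβt, map_one, ← pow_mul] at h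
  have h2 : QuotientGroup.mk' (Zg ψ x y) ((xH x y ^ (c * a) * r) ^ e) = 1 := by
    simp only [map_pow, map_mul]
    exact h
  have h3 := (mk_eq_one_iff _).mp h2
  simpa only [Subgroup.coe_pow, Subgroup.coe_mul, map_pow, map_mul, xH_coe, hx] using h3

include hx in
theorem rel8 {t : Hg x y} (ht : ψ (t : 𝒢) = toMat T1p) :
    (QuotientGroup.mk' (Zg ψ x y) (xH x y) ^ 8 * QuotientGroup.mk' _ t) ^ 3 = 1 := by
  rw [← map_pow, ← map_mul, ← map_pow, mk_eq_one_iff]
  left
  simp only [Subgroup.coe_pow, Subgroup.coe_mul, map_pow, map_mul, xH_coe, hx, ht]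
  rw [← XPt_spec 8 (by norm_num), ← toMat_mulP, ← toMat_powP, T1_rel8, toMat_oneP]

include hx in
theorem rel2 {t : Hg x y} (ht : ψ (t : 𝒢) = toMat T1p) :
    (QuotientGroup.mk' (Zg ψ x y) (xH x y) ^ 2 * QuotientGroup.mk' _ t) ^ 4 = 1 := by
  rw [← map_pow, ← map_mul, ← map_pow, mk_eq_one_iff]
  right; right
  simp only [Subgroup.coe_pow, Subgroup.coe_mul, map_pow, map_mul, xH_coe, hx, ht]
  rw [← XPt_spec 2 (by norm_num), ← toMat_mulP, ← toMat_powP, T1_rel2]

include hψ hx hy in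
/-- the outer automorphism group of the quotient by the scalars has order two -/
theorem out_Zg : Nat.card (Cfsg.Out (Hg x y ⧸ Zg ψ x y)) = 2 := by
  have hfin := Hg_finite hψ hx hy
  obtain ⟨t, ht⟩ : ∃ t : Hg x y, ψ (t : 𝒢) = toMat T1p := by
    obtain ⟨t0, ht0H, ht0⟩ :=
      real_decomp (ψ := ψ) hx hy 3964 10354 T1p (by norm_num) (by norm_num) T1_dec
    exact ⟨⟨t0, ht0H⟩, ht0⟩
  obtain ⟨n, hn⟩ : ∃ n : Hg x y, ψ (n : 𝒢) = toMat Np := by
    obtain ⟨n0, hn0H, hn0⟩ :=
      real_decomp (ψ := ψ) hx hy 4733 12461 Np (by norm_num) (by norm_num) Np_dec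
    exact ⟨⟨n0, hn0H⟩, hn0⟩
  obtain ⟨ys, hysH, hys⟩ :=
    real_decomp (ψ := ψ) hx hy 1625 20071 Ysp (by norm_num) (by norm_num) Ysp_dec
  obtain ⟨ζ, hζ⟩ : ∃ ζ : Hg x y, ψ (ζ : 𝒢) = toMat Z1p := by
    obtain ⟨z0, hz0H, hz0⟩ :=
      real_decomp (ψ := ψ) hx hy 0 24440 Z1p (by norm_num) (by norm_num) Z1_dec
    exact ⟨⟨z0, hz0H⟩, hz0⟩
  -- the automorphism induced by the semilinear map
  obtain ⟨σH, hσH⟩ := exists_sigma hψ hx hy tauHom tauHom_inj
    ⟨x, x_mem x y, by rw [hx, tauHom_toMat, sig_X]⟩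
    ⟨ys, hysH, by rw [hy, tauHom_toMat, sig_Y, hys]⟩
  have hmap : (Zg ψ x y).map (σH : Hg x y →* Hg x y) = Zg ψ x y := by
    rw [Zg_eq_center hψ hx hy]
    exact Subgroup.characteristic_iff_map_eq.mp inferInstance σH
  obtain ⟨σ, hσmk⟩ : ∃ σ : MulAut (Hg x y ⧸ Zg ψ x y),
      ∀ h : Hg x y, σ (QuotientGroup.mk' _ h) = QuotientGroup.mk' _ (σH h) :=
    ⟨QuotientGroup.congr (Zg ψ x y) (Zg ψ x y) σH hmap, fun h => rfl⟩
  have hσx : σH (xH x y) = xH x y := by
    apply Subtype.ext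
    apply hψ
    rw [hσH, xH_coe, hx, tauHom_toMat, sig_X]
  refine OutTwo.card_out_two (QuotientGroup.mk' _ (xH x y)) (QuotientGroup.mk' _ t)
    (QuotientGroup.mk' _ n) σ ?_ (order_mk_x hψ hx) ?_ (Q_gen hψ hx hy ht) ?_ ?_ ?_ ?_
  · rw [card_Qg hψ hx hy]; norm_num
  · have e : n * xH x y * n⁻¹ = xH x y ^ 2 := by
      rw [mul_inv_eq_iff_eq_mul]
      apply Subtype.ext
      apply hψ
      simp only [Subgroup.coe_mul, Subgroup.coe_pow, map_mul, map_pow, hn, hx, xH_coe]
      rw [pow_two, ← toMat_mulP, ← toMat_mulP, ← toMat_mulP, Np_rel]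
    rw [← map_inv, ← map_mul, ← map_mul, e, map_pow]
  · rw [hσmk, hσx]
  · -- the automorphism is not inner
    rintro ⟨gq, hgq⟩
    obtain ⟨g, rfl⟩ := QuotientGroup.mk'_surjective (Zg ψ x y) gq
    have key : ∀ h : Hg x y, h ^ 17 = 1 → σH h = g * h * g⁻¹ := by
      intro h h17
      have e1 : QuotientGroup.mk' (Zg ψ x y) (σH h) = QuotientGroup.mk' _ (g * h * g⁻¹) := by
        rw [← hσmk, ← hgq, MulAut.conj_apply]
        simp only [map_mul, map_inv]
      have hz : (σH h)⁻¹ * (g * h * g⁻¹) ∈ Zg ψ x y := QuotientGroup.eq.mp e1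
      obtain ⟨z, hzdef⟩ : ∃ z, z = (σH h)⁻¹ * (g * h * g⁻¹) := ⟨_, rfl⟩
      rw [← hzdef] at hz
      have hz3 : z ^ 3 = 1 := by
        apply Subtype.ext
        apply hψ
        rw [Subgroup.coe_pow, map_pow, ((mem_Zg ψ z).mp hz).pow_three, Subgroup.coe_one, map_one]
      have e2 : g * h * g⁻¹ = σH h * z := by rw [hzdef]; group
      have e3 : (g * h * g⁻¹) ^ 17 = 1 := by rw [conj_pow, h17]; group
      have e4 : (σH h) ^ 17 = 1 := by rw [← map_pow, h17, map_one]
      have e5 : z ^ 17 = 1 := by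
        have hc : Commute (σH h) z := Zg_central hψ z hz (σH h)
        have h5 := hc.mul_pow 17
        rw [← e2, e3, e4, one_mul] at h5
        exact h5.symm
      have e6 : z = 1 := by
        have h18 : z ^ 18 = 1 := by rw [show 18 = 3 * 6 from rfl, pow_mul, hz3, one_pow]
        calc z = z ^ 18 * (z ^ 17)⁻¹ := by group
          _ = 1 := by rw [h18, e5]; group
      rw [e2, e6, mul_one]
    have hσeq : (σH : Hg x y →* Hg x y) = (MulAut.conj g).toMonoidHom := by
      apply MonoidHom.eq_of_eqOn_dense (Hg_closure x y)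
      intro a ha
      rcases ha with rfl | ha
      · exact key _ (xH_pow hψ hx)
      · rw [Set.mem_singleton_iff] at ha
        rw [ha]
        exact key _ (yH_pow hψ hy)
    have h1 : σH ζ = g * ζ * g⁻¹ := DFunLike.congr_fun hσeq ζ
    have hζZ : ζ ∈ Zg ψ x y := (mem_Zg ψ _).mpr (Or.inr (Or.inl hζ))
    have h2 : g * ζ * g⁻¹ = ζ := by rw [Zg_central hψ _ hζZ g]; group
    have h3 := hσH ζ
    rw [h1, h2, hζ, tauHom_toMat, sig_Z1] at h3
    exact toMat_ne' Z12_ne h3
  · -- automorphisms fixing the first generator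
    intro β hβx
    obtain ⟨c, hcx, o, ho, r, hr, hβt⟩ := beta_reduce hψ hx hy ht β
    have hβ'x : (MulAut.conj c * β) (QuotientGroup.mk' _ (xH x y)) =
        QuotientGroup.mk' _ (xH x y) ^ 1 := by
      rw [MulAut.mul_apply, hβx, MulAut.conj_apply, hcx, pow_one]; group
    have r8 := rel_transfer hx t (MulAut.conj c * β) 1 r hβ'x hβt 8 3 (rel8 hx ht)
    have r2 := rel_transfer hx t (MulAut.conj c * β) 1 r hβ'x hβt 2 4 (rel2 hx ht)
    rw [hr] at r8 r2
    rcases F1_spec o ho r8 r2 with rfl | rfl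
    · refine ⟨c, hcx, Or.inl ?_⟩
      rw [hβt]
      congr 1
      apply Subtype.ext
      apply hψ
      rw [hr, getR_401, ht]
    · refine ⟨c, hcx, Or.inr ?_⟩
      rw [hβt, hσmk]
      congr 1
      apply Subtype.ext
      apply hψ
      rw [hr, getR_980, hσH, ht, tauHom_toMat, sig_T1]
  · -- no automorphism cubes the first generator
    intro β hβx
    obtain ⟨c, hcx, o, ho, r, hr, hβt⟩ := beta_reduce hψ hx hy ht β
    have hβ'x : (MulAut.conj c * β) (QuotientGroup.mk' _ (xH x y)) =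
        QuotientGroup.mk' _ (xH x y) ^ 3 := by
      have hc : Commute c (QuotientGroup.mk' (Zg ψ x y) (xH x y)) := hcx
      rw [MulAut.mul_apply, hβx, MulAut.conj_apply, (hc.pow_right 3).eq]; group
    have r8 := rel_transfer hx t (MulAut.conj c * β) 3 r hβ'x hβt 8 3 (rel8 hx ht)
    have r2 := rel_transfer hx t (MulAut.conj c * β) 3 r hβ'x hβt 2 4 (rel2 hx ht)
    rw [hr] at r8 r2
    exact F3_spec o ho r8 r2

include hψ hx hy in
/-- the outer automorphism group of the central quotient has order two -/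
theorem out_center :
    Nat.card (Cfsg.Out (Hg x y ⧸ Subgroup.center (Hg x y))) = 2 := by
  have key : ∀ (N : Subgroup (Hg x y)) [N.Normal], N = Zg ψ x y →
      Nat.card (Cfsg.Out (Hg x y ⧸ N)) = 2 := by
    rintro N hN rfl
    exact out_Zg hψ hx hy
  exact key _ (Zg_eq_center hψ hx hy).symm

end

end Cfsg.Agent.Lib.Helper60.J3
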