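import Cfsg.Agent.Lib.Helper60.J3.ChkAll
import Cfsg.Agent.Lib.Helper60.J3.Core

/-!
The matrix group generated by two explicit 9 x 9 matrices over the field with four elements
(a triple cover of the Janko group `J₃`): decomposition into 6156 cosets of a subgroup with
24480 elements.  Everything is stated for an arbitrary group `𝒢` with an injective
homomorphism `ψ` to matrices and two elements `x`, `y` mapped to the two matrices.
-/

set_option autoImplicit false

namespace Cfsg.Agent.Lib.Helper60.J3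

/-- the word defining the second generator of the subgroup, packed -/
def BpW : ℕ := mulP (mulP (mulP (mulP (mulP (mulP (mulP (mulP (mulP (mulP (mulP (mulP (mulP (mulP Yp Xp) Xp) Xp) Yp) Xp) Xp) Yp) Yp) Yp) Xp) Yp) Yp) Yp) Yp

theorem BpW_eq : BpW = Bp := by decide +kernel
theorem Xp_pow : powP Xp 17 = oneP := by decide +kernel
theorem Yp_pow : powP Yp 17 = oneP := by decide +kernel
theorem Bp_pow : powP Bp 6 = oneP := by decide +kernel
theorem getK_zero : getK 0 = oneP := by decide +kernel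
theorem getC_zero : getC 0 = oneP := by decide +kernel

section
variable {𝒢 : Type*} [Group 𝒢] (ψ : 𝒢 →* Mat)

/-- `m` is the matrix of an element of `S` -/
def Real (S : Subgroup 𝒢) (m : ℕ) : Prop := ∃ g ∈ S, ψ g = toMat m

theorem Real.mul {S : Subgroup 𝒢} {a b : ℕ} (ha : Real ψ S a) (hb : Real ψ S b) :
    Real ψ S (mulP a b) := by
  obtain ⟨g, hg, hga⟩ := ha
  obtain ⟨h, hh, hhb⟩ := hb
  exact ⟨g * h, S.mul_mem hg hh, by rw [map_mul, hga, hhb, toMat_mulP]⟩

theorem Real.one (S : Subgroup 𝒢) : Real ψ S oneP :=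
  ⟨1, S.one_mem, by rw [map_one, toMat_oneP]⟩

theorem Real.mono {S T : Subgroup 𝒢} (h : S ≤ T) {a : ℕ} (ha : Real ψ S a) : Real ψ T a := by
  obtain ⟨g, hg, hga⟩ := ha
  exact ⟨g, h hg, hga⟩

/-- the big group -/
def Hg (x y : 𝒢) : Subgroup 𝒢 := Subgroup.closure {x, y}

/-- second generator of the subgroup with 24480 elements -/
def bEl (x y : 𝒢) : 𝒢 := y * x * x * x * y * x * x * y * y * y * x * y * y * y * y

/-- the subgroup with 24480 elements -/
def Kg (x y : 𝒢) : Subgroup 𝒢 := Subgroup.closure {x, bEl x y}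

theorem x_mem (x y : 𝒢) : x ∈ Hg x y := Subgroup.subset_closure (by simp)
theorem y_mem (x y : 𝒢) : y ∈ Hg x y := Subgroup.subset_closure (by simp)
theorem bEl_mem (x y : 𝒢) : bEl x y ∈ Hg x y := by
  unfold bEl
  repeat' apply Subgroup.mul_mem
  all_goals first | exact x_mem x y | exact y_mem x y

theorem Kg_le (x y : 𝒢) : Kg x y ≤ Hg x y := by
  unfold Kg
  rw [Subgroup.closure_le]
  intro g hg
  rcases hg with rfl | rfl
  · exact x_mem g y
  · exact bEl_mem x y

variable {ψ} (hψ : Function.Injective ψ) {x y : 𝒢} (hx : ψ x = toMat Xp) (hy : ψ y = toMat Yp)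

include hx hy in
theorem bEl_val : ψ (bEl x y) = toMat Bp := by
  rw [← BpW_eq]
  simp only [bEl, map_mul, hx, hy, BpW, toMat_mulP]

include hψ in
theorem pow_eq_one_of {g : 𝒢} {m n : ℕ} (hg : ψ g = toMat m) (h : powP m n = oneP) :
    g ^ n = 1 := by
  apply hψ
  rw [map_pow, hg, ← toMat_powP, h, toMat_oneP, map_one]

include hψ hx in
theorem x_pow : x ^ 17 = 1 := pow_eq_one_of hψ hx Xp_pow

include hψ hy in
theorem y_pow : y ^ 17 = 1 := pow_eq_one_of hψ hy Yp_pow

include hψ hx hy in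
theorem bEl_pow : bEl x y ^ 6 = 1 := pow_eq_one_of hψ (bEl_val hx hy) Bp_pow

theorem chkKA_all : ∀ t < 24480, mulP Xp (getK t) = getK (kA t) ∧ kA t < 24480 := by
  intro t ht
  have h := chkKAB_all t ht
  simp only [chkKAB, chkKA, Bool.and_eq_true, Nat.blt_eq] at h
  exact ⟨Nat.eq_of_beq_eq_true h.1.1, h.1.2⟩

theorem chkKB_all : ∀ t < 24480, mulP Bp (getK t) = getK (kB t) ∧ kB t < 24480 := by
  intro t ht
  have h := chkKAB_all t ht
  simp only [chkKAB, chkKB, Bool.and_eq_true, Nat.blt_eq] at h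
  exact ⟨Nat.eq_of_beq_eq_true h.2.1, h.2.2⟩

include hψ hx hy in
theorem K_sub : ∀ k ∈ Kg x y, ∃ t < 24480, ψ k = toMat (getK t) := by
  apply closure_left_ind'
  · intro g hg
    rcases hg with rfl | rfl
    · exact isOfFinOrder_iff_pow_eq_one.mpr ⟨17, by norm_num, x_pow hψ hx⟩
    · exact isOfFinOrder_iff_pow_eq_one.mpr ⟨6, by norm_num, bEl_pow hψ hx hy⟩
  · exact ⟨0, by norm_num, by rw [getK_zero, toMat_oneP, map_one]⟩
  · rintro g hg k ⟨t, ht, hk⟩
    rcases hg with hg | hg
    · rw [hg]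
      obtain ⟨h1, h2⟩ := chkKA_all t ht
      exact ⟨kA t, h2, by rw [map_mul, hk, hx, toMat_mul_eq h1]⟩
    · rw [Set.mem_singleton_iff] at hg
      rw [hg]
      obtain ⟨h1, h2⟩ := chkKB_all t ht
      exact ⟨kB t, h2, by rw [map_mul, hk, bEl_val hx hy, toMat_mul_eq h1]⟩

include hx hy in
theorem K_sup : ∀ t < 24480, Real ψ (Kg x y) (getK t) := by
  intro t
  induction t using Nat.strong_induction_on with
  | _ t ih =>
    intro ht
    rcases Nat.eq_zero_or_pos t with rfl | hpos
    · rw [getK_zero]; exact Real.one ψ _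
    · obtain ⟨t', rfl⟩ : ∃ t', t = t' + 1 := ⟨t - 1, by omega⟩
      have h := chkKP_all t' (by omega)
      simp only [chkKP, Bool.and_eq_true, Nat.blt_eq, Nat.succ_eq_add_one] at h
      obtain ⟨hp, h2⟩ := h
      have hpl : kPar (t' + 1) < 24480 := lt_trans hp ht
      obtain ⟨k, hk, hkv⟩ := ih _ hp hpl
      split at h2
      · have e := Nat.eq_of_beq_eq_true h2
        obtain ⟨h4, _⟩ := chkKA_all _ hpl
        refine ⟨x * k, (Kg x y).mul_mem (Subgroup.subset_closure (by simp)) hk, ?_⟩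
        rw [map_mul, hkv, hx, toMat_mul_eq h4, e]
      · have e := Nat.eq_of_beq_eq_true h2
        obtain ⟨h4, _⟩ := chkKB_all _ hpl
        refine ⟨bEl x y * k, (Kg x y).mul_mem (Subgroup.subset_closure (by simp)) hk, ?_⟩
        rw [map_mul, hkv, bEl_val hx hy, toMat_mul_eq h4, e]

theorem chkCX_all : ∀ i < 6156, mulP Xp (getC i) = mulP (getC (sX i)) (getK (tX i)) ∧
    sX i < 6156 ∧ tX i < 24480 := by
  intro i hi
  have h := chkCXY_all i hi
  simp only [chkCXY, chkCX, Bool.and_eq_true, Nat.blt_eq] at h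
  exact ⟨Nat.eq_of_beq_eq_true h.1.1.1, h.1.1.2, h.1.2⟩

theorem chkCY_all : ∀ i < 6156, mulP Yp (getC i) = mulP (getC (sY i)) (getK (tY i)) ∧
    sY i < 6156 ∧ tY i < 24480 := by
  intro i hi
  have h := chkCXY_all i hi
  simp only [chkCXY, chkCY, Bool.and_eq_true, Nat.blt_eq] at h
  exact ⟨Nat.eq_of_beq_eq_true h.2.1.1, h.2.1.2, h.2.2⟩

include hx hy in
theorem C_sup : ∀ i < 6156, Real ψ (Hg x y) (getC i) := by
  intro i
  induction i using Nat.strong_induction_on with
  | _ i ih =>
    intro hi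
    rcases Nat.eq_zero_or_pos i with rfl | hpos
    · rw [getC_zero]; exact Real.one ψ _
    · obtain ⟨i', rfl⟩ : ∃ i', i = i' + 1 := ⟨i - 1, by omega⟩
      have h := chkCP_all i' (by omega)
      simp only [chkCP, Bool.and_eq_true, Nat.blt_eq, Nat.succ_eq_add_one] at h
      obtain ⟨hp, h2⟩ := h
      have hpl : cPar (i' + 1) < 6156 := lt_trans hp hi
      obtain ⟨c, hc, hcv⟩ := ih _ hp hpl
      split at h2
      · rw [Bool.and_eq_true] at h2
        have e1 := Nat.eq_of_beq_eq_true h2.1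
        have e2 := Nat.eq_of_beq_eq_true h2.2
        obtain ⟨h4, _, _⟩ := chkCX_all _ hpl
        refine ⟨x * c, (Hg x y).mul_mem (x_mem x y) hc, ?_⟩
        rw [map_mul, hcv, hx, toMat_mul_eq h4, e1, e2, toMat_mulP, getK_zero, toMat_oneP, mul_one]
      · rw [Bool.and_eq_true] at h2
        have e1 := Nat.eq_of_beq_eq_true h2.1
        have e2 := Nat.eq_of_beq_eq_true h2.2
        obtain ⟨h4, _, _⟩ := chkCY_all _ hpl
        refine ⟨y * c, (Hg x y).mul_mem (y_mem x y) hc, ?_⟩
        rw [map_mul, hcv, hy, toMat_mul_eq h4, e1, e2, toMat_mulP, getK_zero, toMat_oneP, mul_one]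

include hψ hx hy in
theorem H_sub : ∀ h ∈ Hg x y, ∃ i < 6156, ∃ k ∈ Kg x y, ψ h = toMat (getC i) * ψ k := by
  apply closure_left_ind'
  · intro g hg
    rcases hg with rfl | rfl
    · exact isOfFinOrder_iff_pow_eq_one.mpr ⟨17, by norm_num, x_pow hψ hx⟩
    · exact isOfFinOrder_iff_pow_eq_one.mpr ⟨17, by norm_num, y_pow hψ hy⟩
  · exact ⟨0, by norm_num, 1, (Kg x y).one_mem, by rw [getC_zero, toMat_oneP, map_one, mul_one]⟩
  · rintro g hg h ⟨i, hi, k, hk, hv⟩
    rcases hg with hg | hg
    · rw [hg]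
      obtain ⟨h1, h2, h3⟩ := chkCX_all i hi
      obtain ⟨k', hk', hkv'⟩ := K_sup hx hy (tX i) h3
      refine ⟨sX i, h2, k' * k, (Kg x y).mul_mem hk' hk, ?_⟩
      rw [map_mul, hv, hx, ← mul_assoc, toMat_mul_eq h1, toMat_mulP, map_mul, hkv', mul_assoc]
    · rw [Set.mem_singleton_iff] at hg
      rw [hg]
      obtain ⟨h1, h2, h3⟩ := chkCY_all i hi
      obtain ⟨k', hk', hkv'⟩ := K_sup hx hy (tY i) h3
      refine ⟨sY i, h2, k' * k, (Kg x y).mul_mem hk' hk, ?_⟩
      rw [map_mul, hv, hy, ← mul_assoc, toMat_mul_eq h1, toMat_mulP, map_mul, hkv', mul_assoc]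

include hx hy in
/-- membership certificate: a product of a coset representative and a subgroup element -/
theorem real_decomp (i t m : ℕ) (hi : i < 6156) (ht : t < 24480)
    (h : mulP (getC i) (getK t) = m) : Real ψ (Hg x y) m := by
  rw [← h]
  exact (C_sup hx hy i hi).mul ψ ((K_sup hx hy t ht).mono ψ (Kg_le x y))

include hψ hx hy in
theorem Kg_finite : Finite (Kg x y) := by
  choose f hf using fun k : Kg x y => K_sub hψ hx hy k.1 k.2
  have hinj : Function.Injective (fun k : Kg x y => (⟨f k, (hf k).1⟩ : Fin 24480)) := by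
    intro a b hab
    have h1 : f a = f b := congrArg Fin.val hab
    apply Subtype.ext
    apply hψ
    rw [(hf a).2, (hf b).2, h1]
  exact Finite.of_injective _ hinj

include hψ hx hy in
theorem card_Kg_le : Nat.card (Kg x y) ≤ 24480 := by
  choose f hf using fun k : Kg x y => K_sub hψ hx hy k.1 k.2
  have hinj : Function.Injective (fun k : Kg x y => (⟨f k, (hf k).1⟩ : Fin 24480)) := by
    intro a b hab
    have h1 : f a = f b := congrArg Fin.val hab
    apply Subtype.ext
    apply hψ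
    rw [(hf a).2, (hf b).2, h1]
  have := Nat.card_le_card_of_injective _ hinj
  rwa [Nat.card_fin] at this

include hψ hx hy in
theorem Hg_finite : Finite (Hg x y) := by
  have := Kg_finite hψ hx hy
  choose f hf k hk hv using fun h : Hg x y => H_sub hψ hx hy h.1 h.2
  have hinj : Function.Injective
      (fun h : Hg x y => ((⟨f h, hf h⟩ : Fin 6156), (⟨k h, hk h⟩ : Kg x y))) := by
    intro a b hab
    have h1 : f a = f b := congrArg Fin.val (congrArg Prod.fst hab)
    have h2 : k a = k b := congrArg Subtype.val (congrArg Prod.snd hab)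
    apply Subtype.ext
    apply hψ
    rw [hv a, hv b, h1, h2]
  exact Finite.of_injective _ hinj

include hψ hx hy in
theorem card_Hg_le : Nat.card (Hg x y) ≤ 6156 * Nat.card (Kg x y) := by
  have := Kg_finite hψ hx hy
  choose f hf k hk hv using fun h : Hg x y => H_sub hψ hx hy h.1 h.2
  have hinj : Function.Injective
      (fun h : Hg x y => ((⟨f h, hf h⟩ : Fin 6156), (⟨k h, hk h⟩ : Kg x y))) := by
    intro a b hab
    have h1 : f a = f b := congrArg Fin.val (congrArg Prod.fst hab)
    have h2 : k a = k b := congrArg Subtype.val (congrArg Prod.snd hab)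
    apply Subtype.ext
    apply hψ
    rw [hv a, hv b, h1, h2]
  have := Nat.card_le_card_of_injective _ hinj
  rwa [Nat.card_prod, Nat.card_fin] at this

end

end Cfsg.Agent.Lib.Helper60.J3
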