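import Cfsg.Agent.Lib.Helper60.J3.DataC

/-!
Data for a Sylow subgroup of the matrix group: generators, the table of all elements, the
tables for left multiplication by the generators, and for each element either a generator
with which it does not commute modulo scalars or a certificate that its normal closure
contains an element of order divisible by 17.
-/

set_option autoImplicit false

namespace Cfsg.Agent.Lib.Helper60.J3

structure SylData where
  N : ℕ
  r : ℕ
  gen : ℕ → ℕ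
  gc : ℕ → ℕ
  gt : ℕ → ℕ
  T : ℕ → ℕ
  nx : ℕ → ℕ → ℕ
  par : ℕ → ℕ
  lt : ℕ → ℕ
  fl : ℕ → ℕ
  cw : ℕ → ℕ
  nW : ℕ
  W : ℕ → ℕ
  Wi : ℕ → ℕ
  wc : ℕ → ℕ
  wt : ℕ → ℕ

def chkGen (D : SylData) (l : ℕ) : Bool :=
  Nat.beq (mulP (getC (D.gc l)) (getK (D.gt l))) (D.gen l) && Nat.blt (D.gc l) 6156 &&
    Nat.blt (D.gt l) 24480

def chkNx (D : SylData) (j l : ℕ) : Bool :=
  Nat.beq (mulP (D.gen l) (D.T j)) (D.T (D.nx l j)) && Nat.blt (D.nx l j) D.N

def chkNxAll (D : SylData) (j : ℕ) : Bool := allBelow (chkNx D j) D.r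

/-- parent check for index `j + 1` -/
def chkPar (D : SylData) (j : ℕ) : Bool :=
  Nat.blt (D.par (Nat.succ j)) (Nat.succ j) && Nat.blt (D.lt (Nat.succ j)) D.r &&
    Nat.beq (D.nx (D.lt (Nat.succ j)) (D.par (Nat.succ j))) (Nat.succ j)

def neqP (a b : ℕ) : Bool := !(Nat.beq (canon a) (canon b))

def chkDist (D : SylData) (i : ℕ) : Bool := allBelow (fun j => neqP (D.T i) (D.T j)) i

def chkW (D : SylData) (c : ℕ) : Bool :=
  Nat.beq (mulP (D.W c) (D.Wi c)) oneP &&
    Nat.beq (mulP (getC (D.wc c)) (getK (D.wt c))) (D.W c) &&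
    Nat.blt (D.wc c) 6156 && Nat.blt (D.wt c) 24480

/-- the product of an element and a conjugate of it -/
def certP (D : SylData) (j : ℕ) : ℕ :=
  mulP (D.T j) (mulP (D.W (D.cw j)) (mulP (D.T j) (D.Wi (D.cw j))))

def chkFl (D : SylData) (j : ℕ) : Bool :=
  match D.fl j with
  | 0 => Nat.beq (D.T j) oneP || Nat.beq (D.T j) Z1p || Nat.beq (D.T j) Z2p
  | 1 => Nat.blt (D.cw j) D.nW && Nat.beq (powP (certP D j) 51) oneP &&
      neqP (powP (certP D j) 3) oneP
  | l + 2 => Nat.blt l D.r &&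
      neqP (mulP (D.T j) (D.gen l)) (mulP (D.gen l) (D.T j)) &&
      neqP (mulP (D.T j) (D.gen l)) (mulP Z1p (mulP (D.gen l) (D.T j))) &&
      neqP (mulP (D.T j) (D.gen l)) (mulP Z2p (mulP (D.gen l) (D.T j)))

structure SylOK (D : SylData) : Prop where
  t0 : D.T 0 = oneP
  npos : 0 < D.N
  gen : ∀ l < D.r, chkGen D l = true
  nx : ∀ j < D.N, chkNxAll D j = true
  par : ∀ j < D.N - 1, chkPar D j = true
  dist : ∀ i < D.N, chkDist D i = true
  w : ∀ c < D.nW, chkW D c = true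
  fl : ∀ j < D.N, chkFl D j = true

end Cfsg.Agent.Lib.Helper60.J3
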