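import Cfsg.Agent.Lib.Helper60.J3.Spec1
import Cfsg.Agent.Lib.Helper60.J3.Syl

/-!
The scalar subgroup of the matrix group, and the semantics of the Sylow data: the order of
the Sylow subgroup and the certificate for its central elements in the quotient modulo
scalars.
-/

set_option autoImplicit false

namespace Cfsg.Agent.Lib.Helper60.J3

theorem Z11 : mulP Z1p Z1p = Z2p := by decide +kernel
theorem Z12 : mulP Z1p Z2p = oneP := by decide +kernel
theorem Z21 : mulP Z2p Z1p = oneP := by decide +kernel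
theorem Z22 : mulP Z2p Z2p = Z1p := by decide +kernel
theorem Z1_pow : powP Z1p 3 = oneP := by decide +kernel
theorem Z1_ne : neqP Z1p oneP = true := by decide +kernel
theorem Z1_dec : mulP (getC 0) (getK 24440) = Z1p := by decide +kernel
theorem Z2_dec : mulP (getC 0) (getK 10220) = Z2p := by decide +kernel
theorem getK_Z1 : getK 24440 = Z1p := by decide +kernel
theorem getK_Z2 : getK 10220 = Z2p := by decide +kernel
theorem Xp_ne0 : neqP Xp oneP = true := by decide +kernel
theorem Xp_ne1 : neqP Xp Z1p = true := by decide +kernel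
theorem Xp_ne2 : neqP Xp Z2p = true := by decide +kernel
theorem Yp_ne0 : neqP Yp oneP = true := by decide +kernel
theorem Yp_ne1 : neqP Yp Z1p = true := by decide +kernel
theorem Yp_ne2 : neqP Yp Z2p = true := by decide +kernel
theorem XY_ne : neqP (mulP Xp Yp) (mulP Yp Xp) = true := by decide +kernel

theorem toMat_ne' {a b : ℕ} (h : neqP a b = true) : toMat a ≠ toMat b := by
  apply toMat_ne
  simpa [neqP] using h

/-- scalar matrices -/
def IsSc (m : Mat) : Prop := m = 1 ∨ m = toMat Z1p ∨ m = toMat Z2p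

theorem IsSc.mul {a b : Mat} (ha : IsSc a) (hb : IsSc b) : IsSc (a * b) := by
  rcases ha with rfl | rfl | rfl <;> rcases hb with rfl | rfl | rfl
  · left; simp
  · right; left; simp
  · right; right; simp
  · right; left; simp
  · right; right; rw [toMat_mul_eq Z11]
  · left; rw [toMat_mul_eq Z12, toMat_oneP]
  · right; right; simp
  · left; rw [toMat_mul_eq Z21, toMat_oneP]
  · right; left; rw [toMat_mul_eq Z22]

theorem IsSc.comm {s : Mat} (hs : IsSc s) (M : Mat) : s * M = M * s := by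
  rcases hs with rfl | rfl | rfl
  · simp
  · rw [toMat_Z1p]
    refine Matrix.ext fun i j => ?_
    rw [Matrix.diagonal_mul, Matrix.mul_diagonal, mul_comm]
  · rw [toMat_Z2p]
    refine Matrix.ext fun i j => ?_
    rw [Matrix.diagonal_mul, Matrix.mul_diagonal, mul_comm]

theorem IsSc.of_mul_eq_one {a b : Mat} (hb : IsSc b) (h : a * b = 1) : IsSc a := by
  rcases hb with rfl | rfl | rfl
  · left; simpa using h
  · right; right
    calc a = a * (toMat Z1p * toMat Z2p) := by rw [toMat_mul_eq Z12, toMat_oneP, mul_one]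
      _ = toMat Z2p := by rw [← mul_assoc, h, one_mul]
  · right; left
    calc a = a * (toMat Z2p * toMat Z1p) := by rw [toMat_mul_eq Z21, toMat_oneP, mul_one]
      _ = toMat Z1p := by rw [← mul_assoc, h, one_mul]

theorem IsSc.pow_three {s : Mat} (hs : IsSc s) : s ^ 3 = 1 := by
  rcases hs with rfl | rfl | rfl
  · simp
  · rw [pow_succ, pow_two, toMat_mul_eq Z11, toMat_mul_eq Z21, toMat_oneP]
  · rw [pow_succ, pow_two, toMat_mul_eq Z22, toMat_mul_eq Z12, toMat_oneP]

section
variable {𝒢 : Type*} [Group 𝒢] (ψ : 𝒢 →* Mat)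

/-- the scalar subgroup -/
def Zg (x y : 𝒢) : Subgroup (Hg x y) where
  carrier := {h | IsSc (ψ h)}
  mul_mem' := by
    intro a b ha hb
    change IsSc (ψ ((a * b : Hg x y) : 𝒢))
    rw [Subgroup.coe_mul, map_mul]
    exact IsSc.mul ha hb
  one_mem' := by
    change IsSc (ψ ((1 : Hg x y) : 𝒢))
    rw [Subgroup.coe_one, map_one]
    left; rfl
  inv_mem' := by
    intro a ha
    change IsSc (ψ ((a⁻¹ : Hg x y) : 𝒢))
    rw [Subgroup.coe_inv]
    apply IsSc.of_mul_eq_one ha
    rw [← map_mul, inv_mul_cancel, map_one]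

theorem mem_Zg {x y : 𝒢} (h : Hg x y) : h ∈ Zg ψ x y ↔ IsSc (ψ h) := Iff.rfl

instance Zg_normal (x y : 𝒢) : (Zg ψ x y).Normal := by
  constructor
  intro z hz g
  rw [mem_Zg] at hz ⊢
  rw [Subgroup.coe_mul, Subgroup.coe_mul, map_mul, map_mul, ← hz.comm, mul_assoc, ← map_mul,
    Subgroup.coe_inv, mul_inv_cancel, map_one, mul_one]
  exact hz

variable {ψ} (hψ : Function.Injective ψ) {x y : 𝒢} (hx : ψ x = toMat Xp) (hy : ψ y = toMat Yp)

include hψ in
theorem Zg_central (z : Hg x y) (hz : z ∈ Zg ψ x y) (g : Hg x y) : g * z = z * g := by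
  apply Subtype.ext
  apply hψ
  rw [Subgroup.coe_mul, Subgroup.coe_mul, map_mul, map_mul]
  exact (((mem_Zg ψ z).mp hz).comm _).symm

include hψ hx hy in
theorem card_Zg : Nat.card (Zg ψ x y) = 3 := by
  obtain ⟨ζ, hζ, hζv⟩ := real_decomp (ψ := ψ) hx hy 0 24440 Z1p (by norm_num) (by norm_num) Z1_dec
  have h3 : (⟨ζ, hζ⟩ : Hg x y) ^ 3 = 1 := by
    apply Subtype.ext
    rw [Subgroup.coe_pow, Subgroup.coe_one]
    exact pow_eq_one_of hψ hζv Z1_pow
  have h1 : (⟨ζ, hζ⟩ : Hg x y) ≠ 1 := by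
    intro h
    have h2 : ζ = 1 := congrArg Subtype.val h
    rw [h2, map_one, ← toMat_oneP] at hζv
    exact toMat_ne' Z1_ne hζv.symm
  have ho : orderOf (⟨ζ, hζ⟩ : Hg x y) = 3 := orderOf_eq_prime h3 h1
  have he : Zg ψ x y = Subgroup.zpowers (⟨ζ, hζ⟩ : Hg x y) := by
    apply le_antisymm
    · intro z hz
      rw [mem_Zg] at hz
      rcases hz with h | h | h
      · have : z = 1 := by
          apply Subtype.ext; apply hψ; rw [h, Subgroup.coe_one, map_one]
        rw [this]; exact Subgroup.one_mem _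
      · have : z = ⟨ζ, hζ⟩ := by
          apply Subtype.ext; apply hψ; rw [h, hζv]
        rw [this]; exact Subgroup.mem_zpowers _
      · have : z = (⟨ζ, hζ⟩ : Hg x y) ^ 2 := by
          apply Subtype.ext; apply hψ
          rw [h, Subgroup.coe_pow, map_pow, hζv, pow_two, toMat_mul_eq Z11]
        rw [this]; exact Subgroup.pow_mem _ (Subgroup.mem_zpowers _) 2
    · rw [Subgroup.zpowers_le, mem_Zg]
      right; left; exact hζv
  rw [he, Nat.card_zpowers, ho]

/-! ### Sylow data -/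

variable (ψ) in
/-- the subgroup generated by the generators of the data -/
def Pg (D : SylData) (x y : 𝒢) : Subgroup 𝒢 :=
  Subgroup.closure {g | g ∈ Hg x y ∧ ∃ l < D.r, ψ g = toMat (D.gen l)}

theorem Pg_le (D : SylData) : Pg ψ D x y ≤ Hg x y := by
  rw [Pg, Subgroup.closure_le]
  exact fun g hg => hg.1

variable {D : SylData} (ok : SylOK D)

include ok in
theorem chkNx_spec : ∀ j < D.N, ∀ l < D.r,
    mulP (D.gen l) (D.T j) = D.T (D.nx l j) ∧ D.nx l j < D.N := by
  intro j hj l hl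
  have h := allBelow_spec _ _ (ok.nx j hj) l hl
  simp only [chkNx, Bool.and_eq_true, Nat.blt_eq] at h
  exact ⟨Nat.eq_of_beq_eq_true h.1, h.2⟩

include hx hy ok in
theorem gen_real : ∀ l < D.r, Real ψ (Hg x y) (D.gen l) := by
  intro l hl
  have h := ok.gen l hl
  simp only [chkGen, Bool.and_eq_true, Nat.blt_eq] at h
  exact real_decomp hx hy _ _ _ h.1.2 h.2 (Nat.eq_of_beq_eq_true h.1.1)

include hψ hx hy ok in
theorem P_sub : ∀ g ∈ Pg ψ D x y, ∃ j < D.N, ψ g = toMat (D.T j) := by
  have hfin := Hg_finite hψ hx hy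
  apply closure_left_ind'
  · rintro g ⟨hg, _⟩
    have : IsOfFinOrder (⟨g, hg⟩ : Hg x y) := isOfFinOrder_of_finite _
    exact (Submonoid.isOfFinOrder_coe (H := (Hg x y).toSubmonoid) (x := ⟨g, hg⟩)).mpr this
  · exact ⟨0, ok.npos, by rw [ok.t0, toMat_oneP, map_one]⟩
  · rintro g ⟨_, l, hl, hg⟩ k ⟨j, hj, hk⟩
    obtain ⟨h1, h2⟩ := chkNx_spec ok j hj l hl
    exact ⟨D.nx l j, h2, by rw [map_mul, hk, hg, toMat_mul_eq h1]⟩

include hx hy ok in
theorem P_sup : ∀ j < D.N, Real ψ (Pg ψ D x y) (D.T j) := by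
  intro j
  induction j using Nat.strong_induction_on with
  | _ j ih =>
    intro hj
    rcases Nat.eq_zero_or_pos j with rfl | hpos
    · rw [ok.t0]; exact Real.one ψ _
    · obtain ⟨j', rfl⟩ : ∃ j', j = j' + 1 := ⟨j - 1, by omega⟩
      have h := ok.par j' (by omega)
      simp only [chkPar, Bool.and_eq_true, Nat.blt_eq, Nat.succ_eq_add_one] at h
      obtain ⟨⟨hp, hl⟩, h2⟩ := h
      have e := Nat.eq_of_beq_eq_true h2
      have hpl : D.par (j' + 1) < D.N := lt_trans hp hj
      obtain ⟨k, hk, hkv⟩ := ih _ hp hpl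
      obtain ⟨g, hg, hgv⟩ := gen_real hx hy ok _ hl
      obtain ⟨h4, _⟩ := chkNx_spec ok _ hpl _ hl
      refine ⟨g * k, (Pg ψ D x y).mul_mem (Subgroup.subset_closure ⟨hg, _, hl, hgv⟩) hk, ?_⟩
      rw [map_mul, hkv, hgv, toMat_mul_eq h4, e]

include ok in
theorem T_inj : ∀ i < D.N, ∀ j < D.N, toMat (D.T i) = toMat (D.T j) → i = j := by
  have key : ∀ i < D.N, ∀ j < i, toMat (D.T i) ≠ toMat (D.T j) := by
    intro i hi j hj
    have h := allBelow_spec _ _ (ok.dist i hi) j hj
    exact toMat_ne' h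
  intro i hi j hj h
  rcases Nat.lt_trichotomy i j with h1 | h1 | h1
  · exact absurd h.symm (key j hj i h1)
  · exact h1
  · exact absurd h (key i hi j h1)

include hψ hx hy ok in
theorem card_Pg : Nat.card (Pg ψ D x y) = D.N := by
  choose f hf hfv using fun j : Fin D.N => P_sup hx hy ok j.1 j.2
  have hbij : Function.Bijective (fun j : Fin D.N => (⟨f j, hf j⟩ : Pg ψ D x y)) := by
    constructor
    · intro a b hab
      have h1 : f a = f b := congrArg Subtype.val hab
      have h2 : toMat (D.T a) = toMat (D.T b) := by rw [← hfv a, ← hfv b, h1]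
      exact Fin.ext (T_inj ok _ a.2 _ b.2 h2)
    · intro g
      obtain ⟨j, hj, hjv⟩ := P_sub hψ hx hy ok g.1 g.2
      refine ⟨⟨j, hj⟩, ?_⟩
      apply Subtype.ext
      apply hψ
      rw [hjv]
      exact hfv ⟨j, hj⟩
  rw [← Nat.card_eq_of_bijective _ hbij, Nat.card_fin]

end

end Cfsg.Agent.Lib.Helper60.J3
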