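import Cfsg.Agent.Lib.Helper60.J3.Syl

/-! Sylow 19-subgroup data (generated). -/

set_option autoImplicit false

namespace Cfsg.Agent.Lib.Helper60.J3

def s19gen (l : ℕ) : ℕ :=
  match l with

  | _ => 0x5704860b1deda7f511679e456e19d9b7e0ec6616
def s19gc (l : ℕ) : ℕ :=
  match l with

  | _ => 0x1469
def s19gt (l : ℕ) : ℕ :=
  match l with

  | _ => 0x5e41
def s19T_c0 : ℕ := 0xd5544a4e55b5b7a5b6365309fc0d1996dbf4332b34f586b167ed6e3ca56ebb6c4e59ea6c1c27102aa09776862568e8757b75a65db5e9c1f9cea17b8ec48884a199e21ba64d81a104c40cec62b909b0611d329d29553c6dc04cf9eef964f85b27c72cc296f6e392a0c19be217b948e983ad2867fcc422403dcd8e0037125f4949f0d5da21528f960ef0647f131f966273573cc46b7e7ab8242447d912c16463ed416e4bc5f5f74d7cad8c5eca30f2b8bffab1faf2c2b7e2e8da6a6170a353e8aafbea0bf11be9b4395e389ab0ed21555c01d1dd099accf205bc49abf6c195e1a4d69bccc0f18702006ed4d4aa117a8754ba6506fad0cbe882b6eaf48707ee4d3104022f790753d34855ce2fbb1d84520ddeeef629256baa6b214350d2c283d6f3cf250dd0f4010364f774043b2f5713ad5a68d9633d72b378f51d71e96e8fe8df9f6917501df098e45ea243ede2a33087acd5fdf5d9dfe56b15c12182c77b69fd4459e7915b86766df83b198590000100001000010000100001000010000100001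
def s19T (j : ℕ) : ℕ := Nat.land (Nat.shiftRight s19T_c0 (Nat.mul 162 j)) 5846006549323611672814739330865132078623730171903
def s19nx0_c0 : ℕ := 0x48110400f0380d0300b0280902007018050100300801
def s19nx0 (j : ℕ) : ℕ := Nat.land (Nat.shiftRight s19nx0_c0 (Nat.mul 10 j)) 1023
def s19nx (_ j : ℕ) : ℕ := s19nx0 j
def s19par_c0 : ℕ := 0x110400f0380d0300b028090200701805010030080100000
def s19par (j : ℕ) : ℕ := Nat.land (Nat.shiftRight s19par_c0 (Nat.mul 10 j)) 1023
def s19lt_c0 : ℕ := 0x0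
def s19lt (j : ℕ) : ℕ := Nat.land (Nat.shiftRight s19lt_c0 (Nat.mul 2 j)) 3
def s19fl_c0 : ℕ := 0x49249249249248
def s19fl (j : ℕ) : ℕ := Nat.land (Nat.shiftRight s19fl_c0 (Nat.mul 3 j)) 7
def s19cw_c0 : ℕ := 0x112034055043021100
def s19cw (j : ℕ) : ℕ := Nat.land (Nat.shiftRight s19cw_c0 (Nat.mul 4 j)) 15
def s19W (l : ℕ) : ℕ :=
  match l with
  | 0 => 0x3eccf96cf095f8e16377236e458b088929e4935cd
  | 1 => 0x2665d5efeeb77b403d6292e1cb5b38eee0bac3329
  | 2 => 0x1332283a5eeac305feaf472a30f2a5902433e28b9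
  | 3 => 0x65e17e6823040f3a4b8c95e78cac94e10caf2562
  | 4 => 0x23f58588c030d5de006c47b129210b6fc195aac78
  | _ => 0x111761563afa48918a9f781e70a4b580a0f5a3cfa
def s19Wi (l : ℕ) : ℕ :=
  match l with
  | 0 => 0x2caa19f733524eb50d497498b1f8a2c4ae4ca07dd
  | 1 => 0x377285c133a3a274cc3a1ce662a1ab7fbd9bda7f9
  | 2 => 0x1f3f308bf236372d64ef8103a4ef4a921322faf09
  | 3 => 0x7ab262f93a04372ac54cd9b7c47c58f004b10dfb
  | 4 => 0x34b1b1190ee803837dac0ec485559236c4f9c162c
  | _ => 0x13d8f19bf162621d6497e1874cea0cc66f31fcd4f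
def s19wc (l : ℕ) : ℕ :=
  match l with
  | 0 => 0x702
  | 1 => 0x4f7
  | 2 => 0xd44
  | 3 => 0x393
  | 4 => 0xfd2
  | _ => 0x1218
def s19wt (l : ℕ) : ℕ :=
  match l with
  | 0 => 0x108b
  | 1 => 0x3c24
  | 2 => 0x215b
  | 3 => 0x4d70
  | 4 => 0x5e2d
  | _ => 0x4e08

def D19 : SylData where
  N := 19
  r := 1
  gen := s19gen
  gc := s19gc
  gt := s19gt
  T := s19T
  nx := s19nx
  par := s19par
  lt := s19lt
  fl := s19fl
  cw := s19cw
  nW := 6
  W := s19W
  Wi := s19Wi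
  wc := s19wc
  wt := s19wt

theorem ok19_gen : allBelow (chkGen D19) 1 = true := by decide +kernel
theorem ok19_nx : allBelow (chkNxAll D19) 19 = true := by decide +kernel
theorem ok19_par : allBelow (chkPar D19) 18 = true := by decide +kernel
theorem ok19_dist : allBelow (chkDist D19) 19 = true := by decide +kernel
theorem ok19_w : allBelow (chkW D19) 6 = true := by decide +kernel
theorem ok19_fl : allBelow (chkFl D19) 19 = true := by decide +kernel

theorem ok19 : SylOK D19 where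
  t0 := by decide +kernel
  npos := by decide
  gen := allBelow_spec _ _ ok19_gen
  nx := allBelow_spec _ _ ok19_nx
  par := allBelow_spec _ _ ok19_par
  dist := allBelow_spec _ _ ok19_dist
  w := allBelow_spec _ _ ok19_w
  fl := allBelow_spec _ _ ok19_fl

end Cfsg.Agent.Lib.Helper60.J3
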