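import Cfsg.Agent.Lib.Helper60.J3.Syl

/-! Sylow 5-subgroup data (generated). -/

set_option autoImplicit false

namespace Cfsg.Agent.Lib.Helper60.J3

def s5gen (l : ℕ) : ℕ :=
  match l with

  | _ => 0x1d7bbe17b0335423dfec3077e6ba1668714dd9e8c
def s5gc (l : ℕ) : ℕ :=
  match l with

  | _ => 0x211
def s5gt (l : ℕ) : ℕ :=
  match l with

  | _ => 0x3ac0
def s5T_c0 : ℕ := 0x18375b3a2d20915235a6a77e534ed8f8e66da0ac82897e30c6a2719f325ec111ccabb0bad099018004f674cee878a030c2331834687b10cf4957c2f4a175eef85ec0cd508f7fb0c1df9ae859a1c53767a310000100001000010000100001000010000100001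
def s5T (j : ℕ) : ℕ := Nat.land (Nat.shiftRight s5T_c0 (Nat.mul 162 j)) 5846006549323611672814739330865132078623730171903
def s5nx0_c0 : ℕ := 0x100300801
def s5nx0 (j : ℕ) : ℕ := Nat.land (Nat.shiftRight s5nx0_c0 (Nat.mul 10 j)) 1023
def s5nx (_ j : ℕ) : ℕ := s5nx0 j
def s5par_c0 : ℕ := 0x30080100000
def s5par (j : ℕ) : ℕ := Nat.land (Nat.shiftRight s5par_c0 (Nat.mul 10 j)) 1023
def s5lt_c0 : ℕ := 0x0
def s5lt (j : ℕ) : ℕ := Nat.land (Nat.shiftRight s5lt_c0 (Nat.mul 2 j)) 3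
def s5fl_c0 : ℕ := 0x1248
def s5fl (j : ℕ) : ℕ := Nat.land (Nat.shiftRight s5fl_c0 (Nat.mul 3 j)) 7
def s5cw_c0 : ℕ := 0x1100
def s5cw (j : ℕ) : ℕ := Nat.land (Nat.shiftRight s5cw_c0 (Nat.mul 4 j)) 15
def s5W (l : ℕ) : ℕ :=
  match l with
  | 0 => 0x38c9fc3521294b5cdcf8b08f9346ad6e7ccad85cd
  | _ => 0x2711571cfabc26bdb59b7fcddc54b8f373ddc73f
def s5Wi (l : ℕ) : ℕ :=
  match l with
  | 0 => 0x296b5c1eec38f8acd845a19d5249087cbccba2879
  | _ => 0x65911fc6b7d846ede62aa2195e18e8a02899b66a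
def s5wc (l : ℕ) : ℕ :=
  match l with
  | 0 => 0xebc
  | _ => 0xa55
def s5wt (l : ℕ) : ℕ :=
  match l with
  | 0 => 0x98e
  | _ => 0x4e8

def D5 : SylData where
  N := 5
  r := 1
  gen := s5gen
  gc := s5gc
  gt := s5gt
  T := s5T
  nx := s5nx
  par := s5par
  lt := s5lt
  fl := s5fl
  cw := s5cw
  nW := 2
  W := s5W
  Wi := s5Wi
  wc := s5wc
  wt := s5wt

theorem ok5_gen : allBelow (chkGen D5) 1 = true := by decide +kernel
theorem ok5_nx : allBelow (chkNxAll D5) 5 = true := by decide +kernel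
theorem ok5_par : allBelow (chkPar D5) 4 = true := by decide +kernel
theorem ok5_dist : allBelow (chkDist D5) 5 = true := by decide +kernel
theorem ok5_w : allBelow (chkW D5) 2 = true := by decide +kernel
theorem ok5_fl : allBelow (chkFl D5) 5 = true := by decide +kernel

theorem ok5 : SylOK D5 where
  t0 := by decide +kernel
  npos := by decide
  gen := allBelow_spec _ _ ok5_gen
  nx := allBelow_spec _ _ ok5_nx
  par := allBelow_spec _ _ ok5_par
  dist := allBelow_spec _ _ ok5_dist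
  w := allBelow_spec _ _ ok5_w
  fl := allBelow_spec _ _ ok5_fl

end Cfsg.Agent.Lib.Helper60.J3
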