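import Cfsg.Agent.Lib.Helper60.J3.Inst
import Cfsg.Agent.Lib.Helper60.J3.TransData
import Cfsg.Prelude.Def_Spor_J3

/-!
Transport of the computation to the matrix group `Cfsg.Spor.threeJ3 F ω` of the definitions, over
an arbitrary field `F` with four elements.
-/

set_option autoImplicit false

namespace Cfsg.Agent.Lib.Helper60.J3

open Matrix Cfsg.Spor

/-- the index bijection `(x, y) ↦ 3x + y` -/
def e9 : F9 ≃ Fin 9 where
  toFun z := ⟨3 * z.1.val + z.2.val, by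
    have h1 := ZMod.val_lt z.1
    have h2 := ZMod.val_lt z.2
    omega⟩
  invFun k := (((k.val / 3 : ℕ) : ZMod 3), ((k.val % 3 : ℕ) : ZMod 3))
  left_inv := by decide
  right_inv := by decide

section Nat

variable {F F' : Type*} [Field F] [Field F'] (f : F →+* F') (ω : F)

theorem omegaPow_map (n : ZMod 3) : f (omegaPow F ω n) = omegaPow F' (f ω) n := by
  simp [omegaPow]

theorem j3A_map (Z w z : F9) : f (j3A F ω Z w z) = j3A F' (f ω) Z w z := by
  simp only [j3A, Matrix.diagonal_apply]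
  split_ifs <;> simp [omegaPow_map]

theorem j3E_map (Z w z : F9) : f (j3E F ω Z w z) = j3E F' (f ω) Z w z := by
  simp only [j3E, Matrix.diagonal_apply]
  split_ifs <;> simp [omegaPow_map]

theorem j3Lam_map (Z z : F9) : f (j3Lam F ω Z z) = j3Lam F' (f ω) Z z := by
  unfold j3Lam
  split_ifs <;> simp

theorem j3D_map (Z w z : F9) : f (j3D F ω Z w z) = j3D F' (f ω) Z w z := by
  simp only [j3D, Matrix.of_apply]
  split_ifs <;> simp [j3Lam_map]

theorem j3B_map (Z w z : F9) : f (j3B F Z w z) = j3B F' Z w z := by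
  simp only [j3B, Matrix.of_apply]
  split_ifs <;> simp

theorem j3C_map (Z w z : F9) : f (j3C F Z w z) = j3C F' Z w z := by
  simp only [j3C, Matrix.of_apply]
  split_ifs <;> simp

end Nat

/-- an entry of a generating matrix literal, with indices in `F9` -/
def entG (k : ℕ) (w z : F9) : F4 := toMat (genP k) (e9 w) (e9 z)

/-- entries of the generating matrices over `F4` -/
def entA (Z w z : F9) : F4 := j3A F4 F4.ω Z w z
/-- entries of the generating matrices over `F4` -/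
def entE (Z w z : F9) : F4 := j3E F4 F4.ω Z w z
/-- entries of the generating matrices over `F4` -/
def entD (Z w z : F9) : F4 := j3D F4 F4.ω Z w z
/-- entries of the generating matrices over `F4` -/
def entB (Z w z : F9) : F4 := j3B F4 Z w z
/-- entries of the generating matrices over `F4` -/
def entC (Z w z : F9) : F4 := j3C F4 Z w z

theorem genA_eq : ∀ Z w z : F9, entA Z w z = entG (e9 Z) w z := by
  decide +kernel

theorem genE_eq : ∀ Z w z : F9, entE Z w z = entG (9 + e9 Z) w z := by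
  decide +kernel

theorem genD_eq : ∀ Z w z : F9, entD Z w z = entG (18 + e9 Z) w z := by
  decide +kernel

theorem genB_eq : ∀ Z : F9, Z ≠ 0 → ∀ w z : F9, entB Z w z = entG (27 + e9 Z) w z := by
  decide +kernel

theorem genC_eq : ∀ Z : F9, Z ≠ 0 → ∀ w z : F9, entC Z w z = entG (36 + e9 Z) w z := by
  decide +kernel

theorem e9_zero : e9 (0 : F9) = 0 := by decide

theorem genDec_spec (k : ℕ) (hk : k < 45) :
    mulP (getC (dC k)) (getK (dK k)) = genP k ∧ dC k < 6156 ∧ dK k < 24480 := by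
  have h := allBelow_spec chkGenDec 45 chkGenDec_all k hk
  simp only [chkGenDec, Bool.and_eq_true] at h
  exact ⟨Nat.eq_of_beq_eq_true h.1.1, by simpa using h.1.2, by simpa using h.2⟩

theorem genInv_spec (k : ℕ) (hk : k < 45) :
    mulP (genP k) (genI k) = oneP ∧ mulP (genI k) (genP k) = oneP := by
  have h := allBelow_spec chkGenInv 45 chkGenInv_all k hk
  simp only [chkGenInv, Bool.and_eq_true] at h
  exact ⟨Nat.eq_of_beq_eq_true h.1, Nat.eq_of_beq_eq_true h.2⟩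

theorem real_foldl {𝒢 : Type*} [Group 𝒢] (ψ : 𝒢 →* Mat) (S : Subgroup 𝒢)
    (h : ∀ k, Real ψ S (genP k)) (w : List ℕ) :
    ∀ acc, Real ψ S acc → Real ψ S (w.foldl (fun acc k => mulP acc (genP k)) acc) := by
  induction w with
  | nil => intro acc h; exact h
  | cons a w ih => intro acc hacc; exact ih _ (Real.mul ψ hacc (h a))

theorem real_evalW {𝒢 : Type*} [Group 𝒢] (ψ : 𝒢 →* Mat) (S : Subgroup 𝒢)
    (h : ∀ k, Real ψ S (genP k)) (w : List ℕ) : Real ψ S (evalW w) :=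
  real_foldl ψ S h w _ (Real.one ψ S)

/-- the Frobenius map of `F4` as a ring equivalence -/
noncomputable def frobEquiv : F4 ≃+* F4 := RingEquiv.ofBijective sqHom (by decide)

section Trans

open scoped MatrixGroups

variable {F : Type*} [Field F]

theorem exists_iso [Fintype F] (hF : Fintype.card F = 4) (ω : F) (hω : ω ^ 2 + ω + 1 = 0) :
    ∃ φ : F ≃+* F4, φ ω = F4.ω := by
  have φ₀ : F ≃+* F4 := FiniteField.ringEquivOfCardEq (by rw [hF, F4.card_eq])
  have h1 : (φ₀ ω) ^ 2 + φ₀ ω + 1 = 0 := by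
    rw [← map_pow, ← map_add, ← map_one φ₀, ← map_add, hω, map_zero]
  have key : ∀ a : F4, a ^ 2 + a + 1 = 0 → a = F4.ω ∨ a ^ 2 = F4.ω := by decide
  rcases key _ h1 with h | h
  · exact ⟨φ₀, h⟩
  · exact ⟨φ₀.trans frobEquiv, h⟩

/-- matrices over `F` indexed by `F9` as matrices over `F4` indexed by `Fin 9` -/
def ΦM (φ : F ≃+* F4) : Matrix F9 F9 F ≃+* Mat :=
  (RingEquiv.mapMatrix φ).trans (Matrix.reindexAlgEquiv F4 F4 e9).toRingEquiv

theorem ΦM_apply (φ : F ≃+* F4) (M : Matrix F9 F9 F) (i j : Fin 9) :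
    ΦM φ M i j = φ (M (e9.symm i) (e9.symm j)) := rfl

/-- the induced injective homomorphism on invertible matrices -/
def ψM (φ : F ≃+* F4) : GL F9 F →* Mat := (ΦM φ).toMonoidHom.comp (Units.coeHom _)

theorem ψM_apply (φ : F ≃+* F4) (g : GL F9 F) : ψM φ g = ΦM φ (g : Matrix F9 F9 F) := rfl

theorem ψM_inj (φ : F ≃+* F4) : Function.Injective (ψM φ) :=
  fun _ _ h => Units.ext ((ΦM φ).injective h)

/-- an invertible matrix from a packed literal and its inverse -/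
def uOf (a b : ℕ) (h1 : mulP a b = oneP) (h2 : mulP b a = oneP) : Matˣ :=
  ⟨toMat a, toMat b, by rw [toMat_mul_eq h1, toMat_oneP], by rw [toMat_mul_eq h2, toMat_oneP]⟩

/-- the corresponding invertible matrix over `F` -/
def gOf (φ : F ≃+* F4) (a b : ℕ) (h1 : mulP a b = oneP) (h2 : mulP b a = oneP) : GL F9 F :=
  Units.map (ΦM φ).symm.toMonoidHom (uOf a b h1 h2)

theorem gOf_val (φ : F ≃+* F4) (a b : ℕ) (h1 : mulP a b = oneP) (h2 : mulP b a = oneP) :
    ((gOf φ a b h1 h2 : GL F9 F) : Matrix F9 F9 F) = (ΦM φ).symm (toMat a) := rfl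

theorem ψM_gOf (φ : F ≃+* F4) (a b : ℕ) (h1 : mulP a b = oneP) (h2 : mulP b a = oneP) :
    ψM φ (gOf φ a b h1 h2) = toMat a := by
  rw [ψM_apply, gOf_val]
  exact (ΦM φ).apply_symm_apply _

/-- the first standard generator over `F` -/
def xT (φ : F ≃+* F4) : GL F9 F := gOf φ Xp Xi Xp_Xi Xi_Xp

/-- the second standard generator over `F` -/
def yT (φ : F ≃+* F4) : GL F9 F := gOf φ Yp Yi Yp_Yi Yi_Yp

theorem ψM_xT (φ : F ≃+* F4) : ψM φ (xT φ) = toMat Xp := ψM_gOf φ _ _ _ _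

theorem ψM_yT (φ : F ≃+* F4) : ψM φ (yT φ) = toMat Yp := ψM_gOf φ _ _ _ _

theorem Φ_of_ent (φ : F ≃+* F4) (M : Matrix F9 F9 F) (k : ℕ)
    (h : ∀ w z, φ (M w z) = entG k w z) : ΦM φ M = toMat (genP k) := by
  refine Matrix.ext fun i j => ?_
  rw [ΦM_apply, h]
  simp [entG]

theorem Φ_A (φ : F ≃+* F4) (ω : F) (hφ : φ ω = F4.ω) (Z : F9) :
    ΦM φ (j3A F ω Z) = toMat (genP (e9 Z)) :=
  Φ_of_ent φ _ _ fun w z => by
    have h := j3A_map (φ : F →+* F4) ω Z w z
    simp only [RingEquiv.coe_toRingHom] at h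
    rw [h, hφ]
    exact genA_eq Z w z

theorem Φ_E (φ : F ≃+* F4) (ω : F) (hφ : φ ω = F4.ω) (Z : F9) :
    ΦM φ (j3E F ω Z) = toMat (genP (9 + e9 Z)) :=
  Φ_of_ent φ _ _ fun w z => by
    have h := j3E_map (φ : F →+* F4) ω Z w z
    simp only [RingEquiv.coe_toRingHom] at h
    rw [h, hφ]
    exact genE_eq Z w z

theorem Φ_D (φ : F ≃+* F4) (ω : F) (hφ : φ ω = F4.ω) (Z : F9) :
    ΦM φ (j3D F ω Z) = toMat (genP (18 + e9 Z)) :=
  Φ_of_ent φ _ _ fun w z => by
    have h := j3D_map (φ : F →+* F4) ω Z w z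
    simp only [RingEquiv.coe_toRingHom] at h
    rw [h, hφ]
    exact genD_eq Z w z

theorem Φ_B (φ : F ≃+* F4) (Z : F9) (hZ : Z ≠ 0) :
    ΦM φ (j3B F Z) = toMat (genP (27 + e9 Z)) :=
  Φ_of_ent φ _ _ fun w z => by
    have h := j3B_map (φ : F →+* F4) Z w z
    simp only [RingEquiv.coe_toRingHom] at h
    rw [h]
    exact genB_eq Z hZ w z

theorem Φ_C (φ : F ≃+* F4) (Z : F9) (hZ : Z ≠ 0) :
    ΦM φ (j3C F Z) = toMat (genP (36 + e9 Z)) :=
  Φ_of_ent φ _ _ fun w z => by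
    have h := j3C_map (φ : F →+* F4) Z w z
    simp only [RingEquiv.coe_toRingHom] at h
    rw [h]
    exact genC_eq Z hZ w z

theorem real_gen (φ : F ≃+* F4) (ω : F) (k : ℕ) (hk : k < 45) (M : Matrix F9 F9 F)
    (hM : M ∈ j3Gens F ω) (hΦ : ΦM φ M = toMat (genP k)) :
    Real (ψM φ) (threeJ3 F ω) (genP k) := by
  obtain ⟨h1, h2⟩ := genInv_spec k hk
  refine ⟨gOf φ (genP k) (genI k) h1 h2, Subgroup.subset_closure ?_, ψM_gOf φ _ _ _ _⟩
  show ((gOf φ (genP k) (genI k) h1 h2 : GL F9 F) : Matrix F9 F9 F) ∈ j3Gens F ω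
  have e : ((gOf φ (genP k) (genI k) h1 h2 : GL F9 F) : Matrix F9 F9 F) = M := by
    rw [gOf_val, ← hΦ]
    exact (ΦM φ).symm_apply_apply M
  rw [e]
  exact hM

theorem mem_gen (φ : F ≃+* F4) (k : ℕ) (hk : k < 45) (g : GL F9 F)
    (hΦ : ΦM φ (g : Matrix F9 F9 F) = toMat (genP k)) : g ∈ Hg (xT φ) (yT φ) := by
  obtain ⟨h1, h2, h3⟩ := genDec_spec k hk
  obtain ⟨g', hg', hv⟩ := real_decomp (ψM_xT φ) (ψM_yT φ) (dC k) (dK k) (genP k) h2 h3 h1
  have e : g = g' := ψM_inj φ (by rw [hv]; exact hΦ)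
  rw [e]
  exact hg'

theorem real_all (φ : F ≃+* F4) (ω : F) (hφ : φ ω = F4.ω) (k : ℕ) :
    Real (ψM φ) (threeJ3 F ω) (genP k) := by
  rcases Nat.lt_or_ge k 45 with hk | hk
  swap
  · rw [genP_ge k hk]
    exact Real.one _ _
  obtain ⟨q, r, hr, rfl⟩ : ∃ q r, r < 9 ∧ k = 9 * q + r :=
    ⟨k / 9, k % 9, Nat.mod_lt _ (by norm_num), (Nat.div_add_mod k 9).symm⟩
  have hq : q < 5 := by omega
  have hZ : ((e9 (e9.symm ⟨r, hr⟩) : Fin 9) : ℕ) = r := by simp
  have hZ0 : r ≠ 0 → e9.symm ⟨r, hr⟩ ≠ 0 := by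
    intro h0 h
    apply h0
    have h' := congrArg e9 h
    rw [Equiv.apply_symm_apply, e9_zero] at h'
    exact congrArg Fin.val h'
  interval_cases q
  · have h := real_gen φ ω _ (by omega) _ (Or.inl (Or.inl (Or.inl (Or.inl ⟨_, rfl⟩))))
      (Φ_A φ ω hφ (e9.symm ⟨r, hr⟩))
    rw [hZ] at h
    simpa using h
  · have h := real_gen φ ω _ (by omega) _ (Or.inl (Or.inl (Or.inl (Or.inr ⟨_, rfl⟩))))
      (Φ_E φ ω hφ (e9.symm ⟨r, hr⟩))
    rw [hZ] at h
    simpa using h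
  · have h := real_gen φ ω _ (by omega) _ (Or.inl (Or.inl (Or.inr ⟨_, rfl⟩)))
      (Φ_D φ ω hφ (e9.symm ⟨r, hr⟩))
    rw [hZ] at h
    simpa using h
  · rcases Nat.eq_zero_or_pos r with h0 | h0
    · subst h0
      rw [show 9 * 3 + 0 = 27 from rfl, genP_27]
      exact Real.one _ _
    · have h := real_gen φ ω _ (by omega) _ (Or.inl (Or.inr ⟨_, hZ0 (by omega), rfl⟩))
        (Φ_B φ (e9.symm ⟨r, hr⟩) (hZ0 (by omega)))
      rw [hZ] at h
      simpa using h
  · rcases Nat.eq_zero_or_pos r with h0 | h0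
    · subst h0
      rw [show 9 * 4 + 0 = 36 from rfl, genP_36]
      exact Real.one _ _
    · have h := real_gen φ ω _ (by omega) _ (Or.inr ⟨_, hZ0 (by omega), rfl⟩)
        (Φ_C φ (e9.symm ⟨r, hr⟩) (hZ0 (by omega)))
      rw [hZ] at h
      simpa using h

/-- the group of the definitions is generated by the two standard generators -/
theorem threeJ3_eq (φ : F ≃+* F4) (ω : F) (hφ : φ ω = F4.ω) :
    threeJ3 F ω = Hg (xT φ) (yT φ) := by
  apply le_antisymm
  · refine (Subgroup.closure_le _).mpr ?_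
    intro g hg
    have hlt : ∀ Z : F9, ((e9 Z : Fin 9) : ℕ) < 9 := fun Z => (e9 Z).isLt
    rcases hg with (((⟨Z, hZ⟩ | ⟨Z, hZ⟩) | ⟨Z, hZ⟩) | ⟨Z, hZ0, hZ⟩) | ⟨Z, hZ0, hZ⟩
    · exact mem_gen φ (e9 Z) (by have := hlt Z; omega) g (by rw [← hZ]; exact Φ_A φ ω hφ Z)
    · exact mem_gen φ (9 + e9 Z) (by have := hlt Z; omega) g (by rw [← hZ]; exact Φ_E φ ω hφ Z)
    · exact mem_gen φ (18 + e9 Z) (by have := hlt Z; omega) g (by rw [← hZ]; exact Φ_D φ ω hφ Z)
    · exact mem_gen φ (27 + e9 Z) (by have := hlt Z; omega) g (by rw [hZ]; exact Φ_B φ Z hZ0)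
    · exact mem_gen φ (36 + e9 Z) (by have := hlt Z; omega) g (by rw [hZ]; exact Φ_C φ Z hZ0)
  · refine (Subgroup.closure_le _).mpr ?_
    intro g hg
    rcases hg with hg | hg
    · obtain ⟨g', hg', hv⟩ := real_evalW (ψM φ) (threeJ3 F ω) (real_all φ ω hφ) wX
      rw [evalW_X, ← ψM_xT φ] at hv
      rw [hg, ← ψM_inj φ hv]
      exact hg'
    · rw [Set.mem_singleton_iff] at hg
      obtain ⟨g', hg', hv⟩ := real_evalW (ψM φ) (threeJ3 F ω) (real_all φ ω hφ) wY
      rw [evalW_Y, ← ψM_yT φ] at hv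
      rw [hg, ← ψM_inj φ hv]
      exact hg'

/-- order, centre and simplicity for the group of the definitions -/
theorem threeJ3_main [Fintype F] (hF : Fintype.card F = 4) (ω : F) (hω : ω ^ 2 + ω + 1 = 0) :
    Nat.card (Subgroup.center (threeJ3 F ω)) = 3 ∧ Nat.card (threeJ3 F ω) = 150698880 ∧
      Nat.card (J3 F ω) = 50232960 ∧ IsSimpleGroup (J3 F ω) := by
  obtain ⟨φ, hφ⟩ := exists_iso hF ω hω
  have key : ∀ S : Subgroup (GL F9 F), S = Hg (xT φ) (yT φ) →
      Nat.card (Subgroup.center S) = 3 ∧ Nat.card S = 150698880 ∧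
        Nat.card (S ⧸ Subgroup.center S) = 50232960 ∧ IsSimpleGroup (S ⧸ Subgroup.center S) := by
    rintro S rfl
    exact main_center (ψM_inj φ) (ψM_xT φ) (ψM_yT φ)
  exact key _ (threeJ3_eq φ ω hφ)

end Trans

end Cfsg.Agent.Lib.Helper60.J3
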